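import Cfsg.Agent.Lib.BenderOne9.C2.Endgame

/-!
# Bender's theorem, part I, node C2: an involution with a class of prime power size
-/

set_option autoImplicit false
set_option linter.style.haveILetI false

namespace Cfsg.Agent.Lib.BenderOne9.C2

open Cfsg.Agent.Lib.Characters.Basic

universe u

variable {H : Type u} [Group H] [Fintype H]

/-- An involution with a class of prime power size and a four group of conjugates lies in a proper
normal subgroup. -/
theorem exists_normal_of_prime_pow {t s : H} (ht : orderOf t = 2) {r i : ℕ} (hr : r.Prime)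
    (hm : (Subgroup.centralizer ({t} : Set H)).index = r ^ i) (hs : IsConj t s)
    (hst : IsConj t (s * t)) : ∃ N : Subgroup H, N.Normal ∧ N ≠ ⊤ ∧ t ∈ N := by
  classical
  haveI := Fintype.ofFinite (Cfsg.IrrCharacter H)
  have htt : t * t = 1 := by rw [← pow_two, ← ht, pow_orderOf_eq_one]
  have ht1 : t ≠ 1 := fun h => by rw [h, orderOf_one] at ht; exact absurd ht (by decide)
  choose deg hdeg0 hdeg using fun χ : Cfsg.IrrCharacter H => exists_degree_pos χ
  choose val hval using fun χ : Cfsg.IrrCharacter H => Fg6.NormThree.exists_int_involution χ htt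
  have horth : ∑ χ, (deg χ : ℤ) * val χ = 0 := by
    have h := Characters.Complete.sum_degree_mul_apply t
    rw [if_neg ht1] at h
    simp only [hdeg, hval] at h
    exact_mod_cast h
  have hd1 : deg (oneChar H) = 1 := by
    have h := hdeg (oneChar H)
    rw [oneChar_apply] at h
    exact_mod_cast h.symm
  have hv1 : val (oneChar H) = 1 := by
    have h := hval (oneChar H)
    rw [oneChar_apply] at h
    exact_mod_cast h.symm
  obtain ⟨χ, hone, hχ⟩ : ∃ χ, χ ≠ oneChar H ∧ ¬ (r : ℤ) ∣ (deg χ : ℤ) * val χ := by
    by_contra hall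
    push Not at hall
    rw [← Finset.add_sum_erase _ _ (Finset.mem_univ (oneChar H)), hd1, hv1] at horth
    have hdvd : (r : ℤ) ∣ ∑ χ ∈ Finset.univ.erase (oneChar H), (deg χ : ℤ) * val χ :=
      Finset.dvd_sum fun χ hχ => hall χ (Finset.ne_of_mem_erase hχ)
    rw [eq_neg_of_add_eq_zero_right horth] at hdvd
    exact hr.not_dvd_one (Int.natCast_dvd_natCast.1 (by simpa using hdvd))
  refine exists_normal_of_coprime htt hst hs χ hone ?_ (hdeg χ) ?_
  · rw [hval]
    exact_mod_cast fun h : val χ = 0 => hχ (by rw [h, mul_zero]; exact dvd_zero _)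
  · rw [hm]
    exact ((hr.coprime_iff_not_dvd.2 fun h => hχ
      (dvd_mul_of_dvd_left (Int.natCast_dvd_natCast.2 h) _)).symm).pow_right i

end Cfsg.Agent.Lib.BenderOne9.C2
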