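import Cfsg.Agent.Lib.BenderOne8.Single.Interface
import Cfsg.Agent.Lib.BenderOne9.C2.PrimePower
import Cfsg.Agent.Lib.SylowNumbers.Basic

/-!
# Bender's theorem, part I, node C2: the two character endgames

With `L = ⟨J⟩` and `D ∩ L` transitive on `J = invAt a`, the class of `t ∈ J` in `L` is `J`, so a
proper normal subgroup of `L` containing `t` is impossible.
-/

set_option autoImplicit false
set_option linter.style.haveILetI false

namespace Cfsg.Agent.Lib.BenderOne9.C2.End

open MulAction Cfsg.Agent.Lib.Involutions.Basic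
open Cfsg.Agent.Lib.BenderOne20 Cfsg.Agent.Lib.BenderOne8 Cfsg.Agent.Lib.BenderOne8.Single

universe u

variable {G Ω : Type u} [Group G] [MulAction G Ω]

theorem mem_invGp {a : Ω} {s : G} (hs : s ∈ invAt G a) : s ∈ invGp G a :=
  Subgroup.subset_closure hs

theorem invGp_le (a : Ω) : invGp G a ≤ stabilizer G a :=
  (Subgroup.closure_le _).2 fun _ hs => hs.2

theorem conj_mem {a : Ω} {g s : G} (hg : g • a = a) (hs : s ∈ invAt G a) :
    g * s * g⁻¹ ∈ invAt G a := by
  have h := OneFix.conj_mem_invAt (g := g) hs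
  rwa [hg] at h

/-- Conjugacy in `L` of the involutions at `a`. -/
theorem isConj_invGp {a b : Ω} (htr : TransJ G a b) {s v : G} (hs : s ∈ invAt G a)
    (hv : v ∈ invAt G a) : IsConj (⟨s, mem_invGp hs⟩ : invGp G a) ⟨v, mem_invGp hv⟩ := by
  obtain ⟨d, hd, hdv⟩ := htr s hs v hv
  exact isConj_iff.2 ⟨⟨d, hd.1⟩, Subtype.ext hdv⟩

/-- The class of an involution at `a` in `L` is the set of all of them. -/
theorem index_centralizer [Finite G] {a b : Ω} (htr : TransJ G a b) {t : G} (ht : t ∈ invAt G a) :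
    (Subgroup.centralizer ({⟨t, mem_invGp ht⟩} : Set (invGp G a))).index =
      Nat.card (invAt G a) := by
  rw [← Induced.Integral.nat_card_carrier]
  have hmem : ∀ x : invGp G a,
      x ∈ (ConjClasses.mk (⟨t, mem_invGp ht⟩ : invGp G a)).carrier ↔ (x : G) ∈ invAt G a := by
    intro x
    rw [ConjClasses.mem_carrier_iff_mk_eq, ConjClasses.mk_eq_mk_iff_isConj, isConj_comm]
    constructor
    · intro h
      obtain ⟨g, hg⟩ := isConj_iff.1 h
      have hg' : (g : G) * t * (g : G)⁻¹ = (x : G) := congrArg Subtype.val hg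
      rw [← hg']
      exact conj_mem (invGp_le a g.2) ht
    · exact fun h => isConj_invGp htr ht h
  exact Nat.card_congr
    { toFun := fun x => ⟨(x.1 : G), (hmem x.1).1 x.2⟩
      invFun := fun x => ⟨⟨x.1, mem_invGp x.2⟩, (hmem _).2 x.2⟩
      left_inv := fun x => rfl
      right_inv := fun x => rfl }

/-- Two commuting involutions at `a`. -/
theorem exists_pair {a : Ω} (hctx : Ctx G Ω) :
    ∃ t ∈ invAt G a, ∃ s ∈ invAt G a, s * t ∈ invAt G a := by
  obtain ⟨s, hs, t, ht, hne, hst⟩ := hctx.four a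
  refine ⟨t, ht, s, hs, orderOf_eq_prime ?_ fun h => hne ?_, ?_⟩
  · rw [pow_two, show s * t * (s * t) = (s * s) * (t * t) by
      rw [mul_assoc, ← mul_assoc t, ← hst, mul_assoc, mul_assoc],
      invol_mul_self hs.1, invol_mul_self ht.1, one_mul]
  · rw [eq_inv_of_mul_eq_one_left h, invol_inv ht.1]
  · rw [mul_smul, ht.2, hs.2]

/-- No proper normal subgroup of `L` contains an involution at `a`. -/
theorem false_of_normal {a b : Ω} (htr : TransJ G a b) {t : G} (ht : t ∈ invAt G a)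
    {N : Subgroup (invGp G a)} (hN : N.Normal) (hne : N ≠ ⊤)
    (htN : ⟨t, mem_invGp ht⟩ ∈ N) : False := by
  refine hne (eq_top_iff.2 fun x _ => ?_)
  have h : ∀ y (hy : y ∈ invGp G a), (⟨y, hy⟩ : invGp G a) ∈ N := by
    intro y hy
    induction hy using Subgroup.closure_induction with
    | mem v hv =>
      obtain ⟨g, hg⟩ := isConj_iff.1 (isConj_invGp htr ht hv)
      rw [← hg]
      exact hN.conj_mem _ htN g
    | one => exact N.one_mem
    | mul v w _ _ h1 h2 => exact N.mul_mem h1 h2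
    | inv v _ h1 => exact N.inv_mem h1
  exact h x x.2

/-- Case III (5), `m` a prime power. -/
theorem propEndPrimePow : PropEndPrimePow.{u} := by
  intro G Ω _ _ _ a b hctx _ _ htr hpp
  obtain ⟨t, ht, s, hs, hst⟩ := exists_pair (a := a) hctx
  obtain ⟨r, i, hr, -, hri⟩ := (isPrimePow_nat_iff _).1 hpp
  haveI := Fintype.ofFinite (invGp G a)
  obtain ⟨N, hN, hne, htN⟩ := C2.exists_normal_of_prime_pow
    (t := (⟨t, mem_invGp ht⟩ : invGp G a)) (s := ⟨s, mem_invGp hs⟩)
    ((Subgroup.orderOf_mk t _).trans ht.1) hr (by rw [index_centralizer htr ht, hri])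
    (isConj_invGp htr ht hs) (isConj_invGp htr ht hst)
  exact false_of_normal htr ht hN hne htN

section EndB

variable [Finite G]

omit [Finite G] in
/-- A `p`-subgroup of `G_ab` counts the other points modulo `p`. -/
theorem others_modEq {a b : Ω} [Finite Ω] {p : ℕ} [Fact p.Prime] {X : Subgroup G}
    (hX : IsPGroup p X) (hXD : X ≤ pairStab G a b) :
    Nat.card (others G a) ≡ Nat.card {e : Ω // e ∈ Fx X ∧ e ≠ a} [MOD p] := by
  letI : MulAction X (others G a) :=
    { smul := fun g e => (⟨(g : G), (hXD g.2).1⟩ : stabilizer G a) • e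
      one_smul := fun e => Subtype.ext (one_smul G (e : Ω))
      mul_smul := fun g h e => Subtype.ext (mul_smul (g : G) (h : G) (e : Ω)) }
  refine (hX.card_modEq_card_fixedPoints (others G a)).trans ?_
  have e : fixedPoints X (others G a) ≃ {e : Ω // e ∈ Fx X ∧ e ≠ a} :=
    { toFun := fun e => ⟨e.1.1, fun g hg => congrArg Subtype.val (e.2 ⟨g, hg⟩), e.1.2⟩
      invFun := fun e => ⟨⟨e.1, e.2.2⟩, fun g => Subtype.ext (e.2.1 g.2)⟩
      left_inv := fun e => rfl
      right_inv := fun e => rfl }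
  rw [Nat.card_congr e]

/-- The orbit of `b` under `L` has size dividing the number of other points. -/
theorem relIndex_dvd_others (hG : OneFix G Ω) (hF : PropF G Ω) {a b : Ω} (hab : b ≠ a)
    (hm : 1 < Nat.card (invAt G a)) :
    (stabilizer G b).relIndex (invGp G a) ∣ Nat.card (others G a) := by
  haveI : IsPretransitive (stabilizer G a) (others G a) := ⟨fun e f => by
    obtain ⟨h, h1, h2⟩ := two_transitive hG hF hm e.2 f.2
    exact ⟨⟨h, h1⟩, Subtype.ext h2⟩⟩
  haveI : ((invGp G a).subgroupOf (stabilizer G a)).Normal := ⟨fun x hx g => by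
    refine Subgroup.mem_subgroupOf.2 ?_
    have h : ∀ y ∈ invGp G a, (g : G) * y * (g : G)⁻¹ ∈ invGp G a := by
      intro y hy
      induction hy using Subgroup.closure_induction with
      | mem v hv => exact mem_invGp (conj_mem g.2 hv)
      | one => simp
      | mul v w _ _ h1 h2 =>
        rw [show (g : G) * (v * w) * (g : G)⁻¹ =
          ((g : G) * v * (g : G)⁻¹) * ((g : G) * w * (g : G)⁻¹) by group]
        exact mul_mem h1 h2
      | inv v _ h1 =>
        rw [show (g : G) * v⁻¹ * (g : G)⁻¹ = ((g : G) * v * (g : G)⁻¹)⁻¹ by group]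
        exact inv_mem h1
    simpa using h _ (Subgroup.mem_subgroupOf.1 hx)⟩
  have h := SylowNumbers.Basic.relIndex_dvd_index_of_normal_right
    ((stabilizer G b).subgroupOf (stabilizer G a)) ((invGp G a).subgroupOf (stabilizer G a))
  rw [Subgroup.relIndex_subgroupOf (invGp_le a)] at h
  have e : (stabilizer G b).subgroupOf (stabilizer G a) =
      stabilizer (stabilizer G a) (⟨b, hab⟩ : others G a) := by
    ext g
    exact ⟨fun h => Subtype.ext h, fun h => congrArg Subtype.val h⟩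
  rwa [e, index_stabilizer_of_transitive] at h

omit [Finite G] in
/-- Products of a normalised and a normalising subgroup. -/
theorem exists_mul_of_mem_sup {S T : Subgroup G}
    (hT : T ≤ Subgroup.normalizer (S : Set G)) {g : G} (hg : g ∈ S ⊔ T) :
    ∃ x ∈ S, ∃ τ ∈ T, x * τ = g := by
  have h : g ∈ ((S ⊔ T : Subgroup G) : Set G) := hg
  rw [Subgroup.coe_mul_of_right_le_normalizer_left S T hT] at h
  exact Set.mem_mul.1 h

/-- A fixed point free coset: an element of `S τ` commutes with no non-trivial element of `S`. -/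
theorem eq_one_of_coset {S : Subgroup G} {τ : G}
    (hn : ∀ x ∈ S, τ * x * τ⁻¹ ∈ S) (hfree : ∀ x ∈ S, τ * x = x * τ → x = 1) {s x : G}
    (hs : s ∈ S) (hx : x ∈ S) (h : s * τ * x = x * (s * τ)) : x = 1 := by
  have hin : ∀ b : S, (b : G) * τ * (b : G)⁻¹ * τ⁻¹ ∈ S := fun b => by
    rw [show (b : G) * τ * (b : G)⁻¹ * τ⁻¹ = (b : G) * (τ * (b : G)⁻¹ * τ⁻¹) by group]
    exact S.mul_mem b.2 (hn _ (S.inv_mem b.2))
  have hsurj : Function.Surjective (fun b : S => (⟨_, hin b⟩ : S)) := by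
    refine Finite.surjective_of_injective fun b b' e => ?_
    have e' : (b : G) * τ * (b : G)⁻¹ = (b' : G) * τ * (b' : G)⁻¹ :=
      mul_right_cancel (congrArg Subtype.val e)
    have h' := hfree ((b' : G)⁻¹ * b) (S.mul_mem (S.inv_mem b'.2) b.2) (by
      calc τ * ((b' : G)⁻¹ * b) = (b' : G)⁻¹ * ((b' : G) * τ * (b' : G)⁻¹) * b := by group
        _ = (b' : G)⁻¹ * b * τ := by rw [← e']; group)
    exact Subtype.ext (inv_mul_eq_one.1 h').symm
  obtain ⟨b, hb⟩ := hsurj ⟨s, hs⟩
  have hb' : s * τ = (b : G) * τ * (b : G)⁻¹ := by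
    have e : (b : G) * τ * (b : G)⁻¹ * τ⁻¹ = s := congrArg Subtype.val hb
    rw [← e]; group
  rw [hb'] at h
  have h' := hfree ((b : G)⁻¹ * x * b) (S.mul_mem (S.mul_mem (S.inv_mem b.2) hx) b.2) (by
    calc τ * ((b : G)⁻¹ * x * b) = (b : G)⁻¹ * ((b : G) * τ * (b : G)⁻¹ * x) * b := by group
      _ = (b : G)⁻¹ * x * b * τ := by rw [h]; group)
  calc x = (b : G) * ((b : G)⁻¹ * x * b) * (b : G)⁻¹ := by group
    _ = 1 := by rw [h']; group

/-- A group of prime order acting without fixed points on `S` gives `|S| ≡ 1`. -/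
theorem card_modEq_one {S T : Subgroup G} {q : ℕ} [Fact q.Prime] (hq : Nat.card T = q)
    (hn : ∀ τ ∈ T, ∀ x ∈ S, τ * x * τ⁻¹ ∈ S)
    (hfree : ∀ τ ∈ T, τ ≠ 1 → ∀ x ∈ S, τ * x = x * τ → x = 1) :
    Nat.card S ≡ 1 [MOD q] := by
  letI : MulAction T S :=
    { smul := fun τ x => ⟨(τ : G) * x * (τ : G)⁻¹, hn τ τ.2 x x.2⟩
      one_smul := fun x => Subtype.ext (by show (1 : G) * (x : G) * (1 : G)⁻¹ = x; simp)
      mul_smul := fun g h x => Subtype.ext (by
        show ((g : G) * h) * (x : G) * ((g : G) * h)⁻¹ =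
          (g : G) * ((h : G) * x * (h : G)⁻¹) * (g : G)⁻¹
        group) }
  refine ((IsPGroup.of_card (n := 1) (by rw [hq, pow_one])).card_modEq_card_fixedPoints S).trans ?_
  have hne : T ≠ ⊥ := fun e => (Fact.out : q.Prime).ne_one (by rw [← hq, e, Subgroup.card_bot])
  obtain ⟨τ, hτ, hτ1⟩ := T.bot_or_exists_ne_one.resolve_left hne
  have huniq : ∀ x : S, x ∈ fixedPoints T S → x = 1 := fun x hx => Subtype.ext (hfree τ hτ hτ1 x x.2
    (mul_inv_eq_iff_eq_mul.1 (congrArg Subtype.val (hx ⟨τ, hτ⟩) : τ * (x : G) * τ⁻¹ = x)))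
  haveI : Subsingleton (fixedPoints T S) :=
    ⟨fun x y => Subtype.ext ((huniq _ x.2).trans (huniq _ y.2).symm)⟩
  rw [Nat.card_of_subsingleton (⟨1, fun g => Subtype.ext (by
    show (g : G) * 1 * (g : G)⁻¹ = 1; simp)⟩ : fixedPoints T S)]

/-- Case III (5), a good element in `F(D)`: the shape is contradictory. -/
theorem false_of_shapeB (hctx : Ctx G Ω) {a b : Ω} (hab : b ≠ a) {u : G} {r q : ℕ}
    {R Z T : Subgroup G} (hs : ShapeB a b u r q R Z T) : False := by
  classical
  have hG := hctx.fix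
  have hF := hctx.propF
  haveI := hG.trans
  haveI : Finite Ω :=
    Finite.of_surjective (fun g : G => g • a) fun z => exists_smul_eq G a z
  haveI := Fact.mk hs.qprime
  haveI := Fact.mk hs.rprime
  haveI hcyc := hs.cyclic
  set L := invGp G a
  set D := dL G a b
  set S := R ⊔ Z with hSdef
  have hmem : ∀ {x : G}, x ∈ D → x • a = a ∧ x • b = b := fun hx => ⟨hx.2.1, hx.2.2⟩
  have hSD : S ≤ D := le_sup_left.trans hs.le.le
  have hTD : T ≤ D := le_sup_right.trans hs.le.le
  have hRD : R ≤ D := le_sup_left.trans hSD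
  have hZD : Z ≤ D := le_sup_right.trans hSD
  have hRZ : ∀ {x : G}, x ∈ S → ∃ z ∈ Z, ∃ c ∈ R, z * c = x := by
    intro x hx
    refine exists_mul_of_mem_sup (S := Z) (T := R) (fun c hc => ?_) (sup_comm R Z ▸ hx)
    refine Subgroup.mem_normalizer_iff.2 fun z => ⟨fun hz => hs.normZ c (hRD hc) z hz, fun hz => ?_⟩
    have := hs.normZ c⁻¹ (hRD (inv_mem hc)) _ hz
    rwa [show c⁻¹ * (c * z * c⁻¹) * c⁻¹⁻¹ = z by group] at this
  have hnormS : ∀ d ∈ D, ∀ x ∈ S, d * x * d⁻¹ ∈ S := by
    intro d hd x hx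
    obtain ⟨z, hz, c, hc, rfl⟩ := hRZ hx
    rw [show d * (z * c) * d⁻¹ = (d * z * d⁻¹) * (d * c * d⁻¹) by group]
    exact S.mul_mem (Subgroup.mem_sup_right (hs.normZ d hd z hz))
      (Subgroup.mem_sup_left (hs.normR d hd c hc))
  have hTN : T ≤ Subgroup.normalizer (S : Set G) := fun τ hτ =>
    Subgroup.mem_normalizer_iff.2 fun x => ⟨fun hx => hnormS τ (hTD hτ) x hx, fun hx => by
      have := hnormS τ⁻¹ (hTD (inv_mem hτ)) _ hx
      rwa [show τ⁻¹ * (τ * x * τ⁻¹) * τ⁻¹⁻¹ = x by group] at this⟩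
  have hdec : ∀ {g : G}, g ∈ D → ∃ x ∈ S, ∃ τ ∈ T, x * τ = g := fun hg =>
    exists_mul_of_mem_sup hTN (hs.le.symm ▸ hg)
  have hoddD : Odd (Nat.card D) :=
    (hG.odd_pairStab hab.symm).of_dvd_nat (Subgroup.card_dvd_of_le inf_le_right)
  -- `Z × R` inside `L`
  let emb0 : Z × R →* G := MonoidHom.noncommCoprod Z.subtype R.subtype
    fun z c => (hs.comm c c.2 z z.2).symm
  have hemb0 : ∀ x : Z × R, emb0 x = (x.1 : G) * x.2 := fun x => rfl
  have hinj0 : Function.Injective emb0 := by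
    rw [injective_iff_map_eq_one]
    rintro ⟨z, c⟩ h
    rw [hemb0] at h
    have hzc : (z : G) = (c : G)⁻¹ := eq_inv_of_mul_eq_one_left h
    have hz1 : (z : G) = 1 := by
      have h2 : (z : G) ∈ R ⊓ Z := ⟨hzc ▸ R.inv_mem c.2, z.2⟩
      rwa [(Subgroup.disjoint_of_coprime_natCard hs.cop).eq_bot, Subgroup.mem_bot] at h2
    have hc1 : (c : G) = 1 := by simpa [hz1] using h
    exact Prod.ext (Subtype.ext hz1) (Subtype.ext hc1)
  have hrange0 : ∀ {x : G}, x ∈ S ↔ ∃ p, emb0 p = x := fun {x} => by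
    refine ⟨fun hx => ?_, ?_⟩
    · obtain ⟨z, hz, c, hc, rfl⟩ := hRZ hx
      exact ⟨(⟨z, hz⟩, ⟨c, hc⟩), rfl⟩
    · rintro ⟨⟨z, c⟩, rfl⟩
      exact S.mul_mem (Subgroup.mem_sup_right z.2) (Subgroup.mem_sup_left c.2)
  let emb : Z × R →* L := emb0.codRestrict L fun x => (hSD (hrange0.2 ⟨x, rfl⟩)).1
  set D' := D.subgroupOf L with hD'
  have hmemD' : ∀ g : D', ((g : L) : G) ∈ D := fun g => Subgroup.mem_subgroupOf.1 g.2
  have hrange : ∀ {x : L}, x ∈ emb.range ↔ (x : G) ∈ S := fun {x} =>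
    ⟨fun ⟨p, hp⟩ => hrange0.2 ⟨p, congrArg Subtype.val hp⟩,
      fun h => let ⟨p, hp⟩ := hrange0.1 h; ⟨p, Subtype.ext hp⟩⟩
  let mkAut : ∀ (N : Subgroup G), (∀ d ∈ D, ∀ x ∈ N, d * x * d⁻¹ ∈ N) → D' → N ≃* N :=
    fun N hN g =>
    { toFun := fun x => ⟨((g : L) : G) * x * ((g : L) : G)⁻¹, hN _ (hmemD' g) x x.2⟩
      invFun := fun x => ⟨((g : L) : G)⁻¹ * x * ((g : L) : G)⁻¹⁻¹,
        hN _ (inv_mem (hmemD' g)) x x.2⟩
      left_inv := fun x => Subtype.ext (by simp [mul_assoc])
      right_inv := fun x => Subtype.ext (by simp [mul_assoc])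
      map_mul' := fun x y => Subtype.ext (by simp [mul_assoc]) }
  -- a non-trivial `Z`-part fixes only the pair
  have hfix : ∀ {z c : G}, z ∈ Z → c ∈ R → z ≠ 1 → ∀ {e : Ω}, (z * c) • e = e →
      e = a ∨ e = b := by
    intro z c hz hc hz1 e he
    set k := Nat.card R
    have hzk : (z * c) ^ k = z ^ k := by
      rw [Commute.mul_pow (hs.comm c hc z hz).symm]
      have : c ^ k = 1 := by
        have h := pow_card_eq_one' (x := (⟨c, hc⟩ : R))
        exact congrArg Subtype.val h
      rw [this, mul_one]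
    have hzk1 : z ^ k ≠ 1 := fun h => hz1 (orderOf_eq_one_iff.1 (Nat.eq_one_of_dvd_coprimes hs.cop
      (orderOf_dvd_of_pow_eq_one h) (Subgroup.orderOf_dvd_natCard Z hz)))
    refine eq_or_eq_of_inverted hG hF hab.symm hs.swap (k := z ^ k)
      (hZD (pow_mem hz k)).2 hzk1 (by rw [← conj_pow, hs.inverts z hz, inv_pow]) ?_
    rw [← hzk]
    exact pow_mem (mem_stabilizer_iff.2 he) k
  have hfreeS : ∀ τ ∈ T, τ ≠ 1 → ∀ x ∈ S, τ * x = x * τ → x = 1 := hs.free
  have hcoset : ∀ {g : G}, g ∈ D → g ∉ S → ∀ {x : G}, x ∈ S → g * x = x * g → x = 1 := by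
    intro g hg hgS x hx hgx
    obtain ⟨s, hs', τ, hτ, rfl⟩ := hdec hg
    have hτ1 : τ ≠ 1 := fun e => hgS (by rw [e, mul_one]; exact hs')
    exact eq_one_of_coset (fun y hy => hnormS τ (hTD hτ) y hy) (hfreeS τ hτ hτ1) hs' hx hgx
  let K : Config L Z R :=
    { emb := emb
      D := D'
      aP := mkAut Z hs.normZ
      aC := mkAut R hs.normR
      inj := fun x y h => hinj0 (congrArg Subtype.val h)
      le := fun x hx => Subgroup.mem_subgroupOf.2 (hSD (hrange.1 hx))
      comm := fun x y => by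
        obtain ⟨g, hg⟩ := hcyc.exists_generator
        obtain ⟨i, rfl⟩ := Subgroup.mem_zpowers_iff.1 (hg x)
        obtain ⟨j, rfl⟩ := Subgroup.mem_zpowers_iff.1 (hg y)
        exact zpow_mul_comm g i j
      hconj := fun g z c => Subtype.ext (by
        show ((g : L) : G) * ((z : G) * (c : G)) * ((g : L) : G)⁻¹ =
          (((g : L) : G) * z * ((g : L) : G)⁻¹) * (((g : L) : G) * c * ((g : L) : G)⁻¹)
        group)
      ti := fun h z z' c c' hz hz' he => by
        refine Subgroup.mem_subgroupOf.2 ⟨h.2, invGp_le a h.2, ?_⟩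
        have he' : (h : G) * ((z : G) * c) * (h : G)⁻¹ = (z' : G) * c' :=
          congrArg Subtype.val he
        have hb : ((z' : G) * c') • ((h : G) • b) = (h : G) • b := by
          rw [← he', mul_smul, mul_smul, inv_smul_smul, mul_smul, (hmem (hRD c.2)).2,
            (hmem (hZD z.2)).2]
        exact (hfix z'.2 c'.2 (fun e => hz' (Subtype.ext e)) hb).resolve_left fun e =>
          hab (MulAction.injective (h : G) (e.trans (invGp_le a h.2 : (h : G) • a = a).symm))
      fpfP := fun g hg z hz => Subtype.ext (hcoset (hmemD' g) (fun h => hg (hrange.2 h))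
        (Subgroup.mem_sup_right z.2) (mul_inv_eq_iff_eq_mul.1 (congrArg Subtype.val hz :
          ((g : L) : G) * z * ((g : L) : G)⁻¹ = z)))
      fpfC := fun g hg c hc => by
        obtain ⟨d, hd⟩ := isConj_iff.1 hc
        have hd' : (d : G) * (((g : L) : G) * c * ((g : L) : G)⁻¹) * (d : G)⁻¹ = c :=
          congrArg Subtype.val hd
        refine Subtype.ext (hcoset (g := (d : G) * ((g : L) : G))
          (D.mul_mem (hRD d.2) (hmemD' g)) (fun h => hg (hrange.2 ?_))
          (Subgroup.mem_sup_left c.2) ?_)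
        · have := S.mul_mem (S.inv_mem (Subgroup.mem_sup_left d.2 : (d : G) ∈ S)) h
          rwa [inv_mul_cancel_left] at this
        · rw [← mul_inv_eq_iff_eq_mul]
          rw [mul_inv_rev]
          calc (d : G) * ((g : L) : G) * c * (((g : L) : G)⁻¹ * (d : G)⁻¹)
              = (d : G) * (((g : L) : G) * c * ((g : L) : G)⁻¹) * (d : G)⁻¹ := by group
            _ = c := hd' }
  -- orders
  have hq : q % 2 = 1 := Nat.odd_iff.1 (hs.qcard ▸ hoddD.of_dvd_nat (Subgroup.card_dvd_of_le hTD))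
  have hrange_card : Nat.card K.emb.range = Nat.card S :=
    Nat.card_congr
      { toFun := fun x => ⟨(x.1 : G), hrange.1 x.2⟩
        invFun := fun x => ⟨⟨x.1, (hSD x.2).1⟩, hrange.2 x.2⟩
        left_inv := fun x => rfl
        right_inv := fun x => rfl }
  have hcardD : Nat.card D = Nat.card S * q := by
    rw [← hs.qcard, ← Nat.card_prod]
    refine (Nat.card_eq_of_bijective (fun p : S × T => (⟨(p.1 : G) * p.2,
      D.mul_mem (hSD p.1.2) (hTD p.2.2)⟩ : D)) ⟨fun p p' e => ?_, fun g => ?_⟩).symm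
    · have e' : (p.1 : G) * p.2 = (p'.1 : G) * p'.2 := congrArg Subtype.val e
      have h1 : (p'.1 : G)⁻¹ * p.1 = (p'.2 : G) * (p.2 : G)⁻¹ := by
        rw [eq_mul_inv_iff_mul_eq, mul_assoc, e', inv_mul_cancel_left]
      have hx := S.mul_mem (S.inv_mem p'.1.2) p.1.2
      have hone : (p'.1 : G)⁻¹ * p.1 = 1 := by
        by_contra hne
        refine hne (hfreeS _ ?_ hne _ hx rfl)
        rw [h1]
        exact T.mul_mem p'.2.2 (T.inv_mem p.2.2)
      have h2 := inv_mul_eq_one.1 hone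
      rw [h2] at e'
      exact Prod.ext (Subtype.ext h2.symm) (Subtype.ext (mul_left_cancel e'))
    · obtain ⟨x, hx, τ, hτ, e⟩ := hdec g.2
      exact ⟨(⟨x, hx⟩, ⟨τ, hτ⟩), Subtype.ext e⟩
  have he : K.e = q := by
    haveI := Fintype.ofFinite L
    have h := K.card_D
    rw [hrange_card, show Nat.card K.D = Nat.card D from
      Nat.card_congr (Subgroup.subgroupOfEquivOfLe inf_le_left).toEquiv, hcardD,
      mul_comm (Nat.card S)] at h
    exact (Nat.eq_of_mul_eq_mul_right Nat.card_pos h).symm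
  have hfreeZ : ∀ Z' : Subgroup G, Z' ≤ Z → ∀ τ ∈ T, τ ≠ 1 → ∀ x ∈ Z', τ * x = x * τ → x = 1 :=
    fun Z' hZ' τ hτ h1 x hx => hfreeS τ hτ h1 x (Subgroup.mem_sup_right (hZ' hx))
  have hPcard : K.e + 1 < Nat.card Z := by
    have hZ1 : 1 < Nat.card Z := (Subgroup.one_lt_card_iff_ne_bot Z).2 hs.ne_bot
    have h1 := card_modEq_one (S := Z) hs.qcard (fun τ hτ x hx => hs.normZ τ (hTD hτ) x hx)
      (hfreeZ Z le_rfl)
    have hoZ : Nat.card Z % 2 = 1 :=
      Nat.odd_iff.1 (hoddD.of_dvd_nat (Subgroup.card_dvd_of_le hZD))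
    obtain ⟨k, hk⟩ := ((Nat.modEq_iff_dvd' hZ1.le).1 h1.symm)
    rw [he]
    rcases Nat.lt_or_ge k 2 with hk2 | hk2
    · interval_cases k <;> omega
    · have := Nat.mul_le_mul_left q hk2
      omega
  obtain ⟨t, ht, htu⟩ := hs.tfix
  have hm : 1 < Nat.card (invAt G a) := by
    obtain ⟨s, hs', v, hv, hne, -⟩ := hctx.four a
    exact Finite.one_lt_card_iff_nontrivial.2
      ⟨⟨s, hs'⟩, ⟨v, hv⟩, fun e => hne (congrArg Subtype.val e)⟩
  -- `m` divides the order of `S`
  have hmS : Nat.card (invAt G a) ∣ Nat.card S := by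
    have h := OneFix.card_eq_orbit_mul D ht (fun d hd v hv => conj_mem (hmem hd).1 hv)
      fun v hv => hs.trans t ht v hv
    have hTY : T ≤ D ⊓ Subgroup.centralizer {t} := fun τ hτ => ⟨hTD hτ,
      Subgroup.mem_centralizer_singleton_iff.2 ((htu τ (hTD hτ)).2
        (Subgroup.mem_centralizer_singleton_iff.1 (hs.commT hτ)))⟩
    obtain ⟨k, hk⟩ := Subgroup.card_dvd_of_le hTY
    rw [hcardD, hk, hs.qcard, mul_comm q, ← mul_assoc] at h
    exact ⟨k, Nat.eq_of_mul_eq_mul_right hs.qprime.pos h⟩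
  have hqS : ¬ q ∣ Nat.card S := by
    intro hd
    have h1 := card_modEq_one (S := S) hs.qcard (fun τ hτ x hx => hnormS τ (hTD hτ) x hx) hfreeS
    have := (Nat.modEq_zero_iff_dvd.2 hd).symm.trans h1
    exact hs.qprime.not_dvd_one (Nat.modEq_zero_iff_dvd.1 this.symm)
  have hScard : Nat.card S = Nat.card Z * Nat.card R := by
    rw [← hrange_card, K.card_range]
  -- the primes of `m`
  have hprimes : ∀ p : ℕ, p.Prime → p ∣ Nat.card (invAt G a) →
      (p ≠ r → q < p) ∧ ¬ p ∣ Nat.card (others G a) := by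
    intro p hp hpm
    haveI := Fact.mk hp
    rcases hp.dvd_mul.1 (hScard ▸ hpm.trans hmS) with hpZ | hpR
    · obtain ⟨z, hz⟩ := exists_prime_orderOf_dvd_card' (G := Z) p hpZ
      have hzo : orderOf (z : G) = p := (Subgroup.orderOf_coe z).trans hz
      set Z₁ := Subgroup.zpowers (z : G) with hZ₁
      have hZ₁c : Nat.card Z₁ = p := by rw [hZ₁, Nat.card_zpowers, hzo]
      have hZ₁Z : Z₁ ≤ Z := Subgroup.zpowers_le.2 z.2
      have hnorm : ∀ τ ∈ T, ∀ x ∈ Z₁, τ * x * τ⁻¹ ∈ Z₁ := by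
        intro τ hτ x hx
        -- the elements with `p`-th power one form the subgroup of order `p`
        have hxp : (τ * x * τ⁻¹) ^ p = 1 := by
          rw [conj_pow]
          have : x ^ p = 1 := by
            rw [← hZ₁c]
            exact congrArg Subtype.val (pow_card_eq_one' (x := (⟨x, hx⟩ : Z₁)))
          rw [this, mul_one, mul_inv_cancel]
        set y : Z := ⟨_, hs.normZ τ (hTD hτ) x (hZ₁Z hx)⟩
        have hy : y ^ p = 1 := Subtype.ext hxp
        have h2 : y ∈ Subgroup.zpowers z := by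
          have hle : Nat.card {w : Z // w ^ p = 1} ≤ p := by
            haveI := Fintype.ofFinite Z
            rw [Nat.card_eq_fintype_card, Fintype.card_subtype]
            exact IsCyclic.card_pow_eq_one_le hp.pos
          by_contra hno
          have hzle : (Subgroup.zpowers z : Set Z) ⊆ {w : Z | w ^ p = 1} := by
            rintro _ ⟨i, rfl⟩
            show (z ^ i) ^ p = 1
            rw [← zpow_natCast, ← zpow_mul, mul_comm, zpow_mul, zpow_natCast, ← hz,
              pow_orderOf_eq_one, one_zpow]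
          have hlt : (Subgroup.zpowers z : Set Z) ⊂ {w : Z | w ^ p = 1} :=
            ⟨hzle, fun h => hno (h hy)⟩
          have h3 := Set.ncard_lt_ncard hlt
          rw [← Nat.card_coe_set_eq, ← Nat.card_coe_set_eq, SetLike.coe_sort_coe, Nat.card_zpowers,
            hz] at h3
          exact absurd (h3.trans_le hle) (lt_irrefl _)
        obtain ⟨i, hi⟩ := Subgroup.mem_zpowers_iff.1 h2
        exact ⟨i, congrArg Subtype.val hi⟩
      have h1 := card_modEq_one (S := Z₁) hs.qcard hnorm (hfreeZ Z₁ hZ₁Z)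
      rw [hZ₁c] at h1
      have hqp : q < p := by
        obtain ⟨k, hk⟩ := (Nat.modEq_iff_dvd' hp.one_lt.le).1 h1.symm
        rcases Nat.eq_zero_or_pos k with rfl | hk0
        · have := hp.two_le; omega
        · have := Nat.le_mul_of_pos_right q hk0
          have := hp.two_le
          omega
      refine ⟨fun _ => hqp, fun hd => ?_⟩
      have h2 := others_modEq (X := Z₁) (IsPGroup.of_card (n := 1) (by rw [hZ₁c, pow_one]))
        ((hZ₁Z.trans hZD).trans inf_le_right)
      haveI : Subsingleton {e : Ω // e ∈ Fx Z₁ ∧ e ≠ a} := by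
        have hb : ∀ e : {e : Ω // e ∈ Fx Z₁ ∧ e ≠ a}, e.1 = b := fun e =>
          (hfix (c := 1) z.2 R.one_mem
            (fun h => hp.ne_one (by rw [← hzo, h, orderOf_one]))
            (by rw [mul_one]; exact e.2.1 (Subgroup.mem_zpowers _))).resolve_left e.2.2
        exact ⟨fun e f => Subtype.ext ((hb e).trans (hb f).symm)⟩
      rw [Nat.card_of_subsingleton (⟨b, fun g hg => (hmem (hZD (hZ₁Z hg))).2, hab⟩ :
        {e : Ω // e ∈ Fx Z₁ ∧ e ≠ a})] at h2
      exact hp.not_dvd_one (Nat.modEq_zero_iff_dvd.1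
        (h2.symm.trans (Nat.modEq_zero_iff_dvd.2 hd)))
    · obtain ⟨k, hk⟩ := IsPGroup.iff_card.1 hs.pgroup
      have hpr : p = r := (Nat.prime_dvd_prime_iff_eq hp hs.rprime).1 (hp.dvd_of_dvd_pow (hk ▸ hpR))
      subst hpr
      refine ⟨fun h => absurd rfl h, ?_⟩
      obtain ⟨x, hxR, hx1, hxu⟩ := hs.good
      set X := Subgroup.zpowers x
      have hXR : X ≤ R := Subgroup.zpowers_le.2 hxR
      have hX : IsPGroup p X := hs.pgroup.to_le hXR
      have hXD : X ≤ pairStab G a b := (hXR.trans hRD).trans inf_le_right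
      obtain ⟨c, hc⟩ := hG.exists_fix hs.swap.1
      have hca : c ≠ a := fun h => by
        rw [h] at hc
        exact hab (hs.swap.2.symm.trans hc)
      have hcb : c ≠ b := fun h => by
        rw [h] at hc
        exact hab (hc.symm.trans (smul_swap hs.swap))
      have hcX : c ∈ Fx X := mem_Fx_of_cen hG ⟨hs.swap.1, hc⟩
        (Subgroup.zpowers_le.2 (Subgroup.mem_centralizer_singleton_iff.2 hxu))
      have haX : a ∈ Fx X := hXD.trans inf_le_left
      have h3 : Three X Ω := ⟨a, b, c, hab.symm, hca, hcb, haX, hXD.trans inf_le_right, hcX⟩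
      have hgood : 1 < Nat.card (invCen X a) := by
        obtain ⟨s, hs'⟩ := exists_cen hG hF hX h3 haX
        haveI : Nonempty ↥(invCen X a) := ⟨⟨s, hs'⟩⟩
        have h1 := (card_invCen_modEq hX haX).symm.trans (Nat.modEq_zero_iff_dvd.2 hpm)
        exact hp.one_lt.trans_le (Nat.le_of_dvd Nat.card_pos (Nat.modEq_zero_iff_dvd.1 h1))
      have hne : Subgroup.centralizer (X : Set G) ≠ ⊤ := fun htop => hx1 (by
        rw [← Subgroup.mem_bot, ← hctx.center, Subgroup.mem_center_iff]
        intro g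
        exact (Subgroup.mem_centralizer_iff.1 (htop.ge (Subgroup.mem_top g)) x
          (Subgroup.mem_zpowers x)).symm)
      obtain ⟨j, hj⟩ := card_Fx_eq_two_pow hG hF hX h3 haX hgood hctx.below hne
      intro hd
      have h2 := others_modEq hX hXD
      rw [hj] at h2
      have h4 := Nat.modEq_zero_iff_dvd.1 (h2.symm.trans (Nat.modEq_zero_iff_dvd.2 hd))
      have h5 : p = 2 := (Nat.prime_dvd_prime_iff_eq hp Nat.prime_two).1 (hp.dvd_of_dvd_pow h4)
      have hodd : Odd p := by
        refine hoddD.of_dvd_nat (hpR.trans (Subgroup.card_dvd_of_le hRD))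
      rw [h5] at hodd
      exact absurd hodd (by decide)
  -- the index of the image
  haveI := Fintype.ofFinite L
  have hidx : K.emb.range.index = q * (stabilizer G b).relIndex L := by
    rw [← Subgroup.relIndex_mul_index K.le, show K.emb.range.relIndex K.D = q from he]
    congr 1
    show (D.subgroupOf L).index = ((stabilizer G b).subgroupOf L).index
    congr 1
    ext x
    exact ⟨fun h => h.2.2, fun h => ⟨x.2, invGp_le a x.2, h⟩⟩
  obtain ⟨v, hv, s, hs', hsv⟩ := exists_pair (a := a) hctx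
  have hodd : Odd (Nat.card K.emb.range) := by
    rw [hrange_card]
    exact hoddD.of_dvd_nat (Subgroup.card_dvd_of_le hSD)
  have hcop : K.emb.range.index.Coprime
      (Subgroup.centralizer ({⟨v, mem_invGp hv⟩} : Set L)).index := by
    rw [hidx, index_centralizer hs.trans hv]
    refine Nat.Coprime.mul_left ?_ ?_
    · exact hs.qprime.coprime_iff_not_dvd.2 fun h => hqS (h.trans hmS)
    · refine Nat.Coprime.coprime_dvd_left (relIndex_dvd_others hG hF hab hm) ?_
      exact Nat.coprime_of_dvd fun p hp h1 h2 => (hprimes p hp h2).2 h1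
  have hsm : ∀ p : ℕ, p.Prime →
      p ∣ (Subgroup.centralizer ({⟨v, mem_invGp hv⟩} : Set L)).index → p ≠ r → K.e < p := by
    intro p hp h hpr
    rw [index_centralizer hs.trans hv] at h
    rw [he]
    exact (hprimes p hp h).1 hpr
  obtain ⟨N, hN, hne, htN⟩ := K.exists_normal (t := (⟨v, mem_invGp hv⟩ : L))
    (s := ⟨s, mem_invGp hs'⟩) ((Subgroup.orderOf_mk v _).trans hv.1) hodd hPcard hcop hs.rprime hsm
    (isConj_invGp hs.trans hv hs') (isConj_invGp hs.trans hv hsv)
  exact false_of_normal hs.trans hv hN hne htN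

end EndB

/-- Case III (5), a good element in `F(D)`. -/
theorem propEndB : PropEndB.{u} :=
  fun _ _ _ _ _ _ _ hctx hab _ _ _ _ _ _ _ hs => false_of_shapeB hctx hab hs


end Cfsg.Agent.Lib.BenderOne9.C2.End
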