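import Cfsg.Agent.Lib.BenderOne9.C2.Family
import Cfsg.Agent.Lib.Characters.Kernel
import Cfsg.Agent.Lib.Induced.Integral
import Cfsg.Agent.Lib.Involutions.Basic
import Cfsg.Agent.Lib.Fg6.NormThree

/-!
# Bender's theorem, part I, node C2: a proper normal subgroup containing an involution

In the configuration of `Family` some non-principal irreducible character of `H` has degree prime
to the class size of the involution `t` and does not vanish at `t`; by Burnside's lemma `t` acts as
a scalar, and a four group of conjugates puts it into the kernel.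
-/

set_option autoImplicit false
set_option linter.style.haveILetI false

namespace Cfsg.Agent.Lib.BenderOne9.C2

open Cfsg.Agent.Lib.Characters.Basic Cfsg.Agent.Lib.Induced.Basic
open Cfsg.Agent.Lib.Involutions.Basic (orderOf_conj_eq)
open scoped ComplexConjugate

universe u v w

variable {H : Type u} [Group H] [Fintype H]

/-- An irreducible character of degree prime to the class size of an involution `t`, not vanishing
at it, has `t` in its kernel if `t` is a product of two commuting conjugates. -/
theorem exists_normal_of_coprime {t s : H} (ht : t * t = 1)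
    (hst : IsConj t (s * t)) (hs : IsConj t s) (χ : Cfsg.IrrCharacter H)
    (hone : χ ≠ oneChar H) (hχt : (χ : H → ℂ) t ≠ 0) {d : ℕ} (hd : (χ : H → ℂ) 1 = d)
    (hcop : d.Coprime (Subgroup.centralizer ({t} : Set H)).index) :
    ∃ N : Subgroup H, N.Normal ∧ N ≠ ⊤ ∧ t ∈ N := by
  obtain ⟨n, ρ, hρ, hρχ⟩ := exists_rep χ
  haveI := hρ
  have hfin : Module.finrank ℂ (Fin n → ℂ) = d := by
    rw [← hρχ, Representation.char_one] at hd
    exact_mod_cast hd
  have hd0 : (d : ℂ) ≠ 0 := hd ▸ apply_one_ne_zero χ
  have hnorm := (Induced.Integral.zero_or_norm_eq_of_coprime ρ t (by rwa [hfin])).resolve_left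
    fun h => hχt (by rw [← hρχ]; exact h)
  obtain ⟨v, hv⟩ := Fg6.NormThree.exists_int_involution χ ht
  have hv' : v = d ∨ v = -(d : ℤ) := by
    rw [hρχ, hv, hfin, Complex.norm_intCast] at hnorm
    have h : |v| = (d : ℤ) := by exact_mod_cast hnorm
    exact (abs_eq (Int.natCast_nonneg d)).1 h
  refine ⟨Characters.Kernel.charKer (isCharacter_irr χ), Characters.Kernel.charKer_normal _, ?_, ?_⟩
  · intro htop
    apply hone
    have hc : (χ : H → ℂ) = (d : ℂ) • (oneChar H : H → ℂ) := funext fun g => by
      rw [Pi.smul_apply, oneChar_apply, smul_eq_mul, mul_one, ← hd]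
      exact (Characters.Kernel.mem_charKer _ g).1 (htop ▸ Subgroup.mem_top g)
    by_contra hne
    have h := classInner_irr_of_ne hne
    rw [hc, classInner_smul_left, classInner_self_irr, mul_one] at h
    exact hd0 h
  · rw [Characters.Kernel.mem_charKer, hv, hd]
    rcases hv' with rfl | rfl
    · simp
    · exfalso
      obtain ⟨c, hc⟩ := Induced.Integral.scalar_of_norm_character_eq ρ hnorm
      have hχ : ∀ g : H, (χ : H → ℂ) (g * t) = c * (χ : H → ℂ) g := by
        intro g
        rw [← hρχ, Representation.character, Representation.character, map_mul, hc,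
          Module.End.mul_eq_comp, LinearMap.comp_smul, LinearMap.comp_id, map_smul, smul_eq_mul]
      have hcl := isClassFunction_irr χ
      have h1 := hχ 1
      rw [one_mul, hv, hd] at h1
      have h2 := hχ s
      rw [← classFunction_apply_of_isConj hcl hst, ← classFunction_apply_of_isConj hcl hs, hv] at h2
      push_cast at h1 h2
      have hc1 : c = -1 := mul_right_cancel₀ hd0 (h1.symm.trans (by ring))
      rw [hc1] at h2
      apply hd0
      linear_combination (-1 / 2 : ℂ) * h2

/-- An algebraic integer which is a rational number with integral numerator. -/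
theorem dvd_of_isIntegral {d : ℕ} (hd : d ≠ 0) {a : ℤ}
    (h : IsIntegral ℤ ((a : ℂ) / (d : ℂ))) : (d : ℤ) ∣ a := by
  have h' : IsIntegral ℤ ((a : ℚ) / (d : ℚ)) := by
    refine (isIntegral_algebraMap_iff (algebraMap ℚ ℂ).injective).1 ?_
    simpa using h
  obtain ⟨k, hk⟩ := IsIntegrallyClosed.isIntegral_iff.1 h'
  refine ⟨k, ?_⟩
  rw [eq_intCast, eq_div_iff (by exact_mod_cast hd)] at hk
  have : (k * (d : ℤ) : ℤ) = a := by exact_mod_cast hk
  linarith

namespace Config

variable {P : Type v} [Group P] {C : Type w} [Group C] (K : Config H P C)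

omit [Fintype H] in
/-- The centraliser of an element of the first factor. -/
theorem centralizer_eq {z : P} (hz : z ≠ 1) :
    Subgroup.centralizer ({K.emb (z, 1)} : Set H) = K.emb.range := by
  refine le_antisymm (fun h hh => ?_) ?_
  · rw [Subgroup.mem_centralizer_singleton_iff] at hh
    have hc : h * K.emb (z, 1) * h⁻¹ = K.emb (z, 1) := by rw [hh, mul_inv_cancel_right]
    have hD := K.ti h z z 1 1 hz hz hc
    by_contra hR
    refine hz (K.fpfP ⟨h, hD⟩ hR z ?_)
    rw [K.conj_emb h hD] at hc
    exact congrArg Prod.fst (K.inj hc)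
  · rintro _ ⟨x, rfl⟩
    rw [Subgroup.mem_centralizer_singleton_iff, ← map_mul, ← map_mul]
    congr 1
    exact Prod.ext (K.comm _ _) (by simp)

/-- The value at an element of the first factor of a character meeting only the principal
family. -/
theorem apply_eq_sum [Fintype P] [Fintype C] [Fintype (Cfsg.IrrCharacter P)] (χ : Cfsg.IrrCharacter H) {z : P} (hz : z ≠ 1)
    (hzero : ∀ (lam : Cfsg.IrrCharacter P) (phi : Cfsg.IrrCharacter C), lam ≠ oneChar P →
      phi ≠ oneChar C → Cfsg.classInner (K.indT lam (phi : C → ℂ)) (χ : H → ℂ) = 0)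
    (a : Cfsg.IrrCharacter P → ℤ) (ha0 : a (oneChar P) = 0)
    (ha : ∀ lam : Cfsg.IrrCharacter P, lam ≠ oneChar P →
      Cfsg.classInner (K.indT lam (oneChar C : C → ℂ)) (χ : H → ℂ) = a lam) :
    (χ : H → ℂ) (K.emb (z, 1)) = -∑ lam, (a lam : ℂ) * (lam : P → ℂ) z := by
  classical
  haveI := Fintype.ofFinite (Cfsg.IrrCharacter C)
  have hcl := isClassFunction_irr χ
  have hP : (Nat.card P : ℂ) ≠ 0 := natCard_ne_zero
  have hC : (Nat.card C : ℂ) ≠ 0 := natCard_ne_zero
  set F : Cfsg.IrrCharacter P → Cfsg.IrrCharacter C → ℂ := fun lam phi =>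
    (phi : C → ℂ) 1 * conj ((lam : P → ℂ) z) *
      Cfsg.classInner (K.indT lam (phi : C → ℂ)) (χ : H → ℂ) with hF
  have hdirect : ∑ lam, ∑ phi, F lam phi = -conj ((χ : H → ℂ) (K.emb (z, 1))) := by
    simp only [hF, K.inner_indT _ _ hcl, Finset.mul_sum]
    calc ∑ lam : Cfsg.IrrCharacter P, ∑ phi : Cfsg.IrrCharacter C, ∑ w : P, ∑ c : C,
          (phi : C → ℂ) 1 * conj ((lam : P → ℂ) z) * ((Nat.card K.emb.range : ℂ)⁻¹ *
            ((1 - (lam : P → ℂ) w) * (phi : C → ℂ) c * conj ((χ : H → ℂ) (K.emb (w, c)))))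
        = ∑ w : P, ∑ c : C, (Nat.card K.emb.range : ℂ)⁻¹ * conj ((χ : H → ℂ) (K.emb (w, c))) *
            ((∑ lam : Cfsg.IrrCharacter P, conj ((lam : P → ℂ) z) * (1 - (lam : P → ℂ) w)) *
              ∑ phi : Cfsg.IrrCharacter C, (phi : C → ℂ) 1 * (phi : C → ℂ) c) := by
          simp only [Finset.sum_mul, Finset.mul_sum]
          rw [Finset.sum_congr rfl fun lam _ => Finset.sum_comm, Finset.sum_comm]
          refine Finset.sum_congr rfl fun w _ => ?_
          rw [Finset.sum_congr rfl fun lam _ => Finset.sum_comm, Finset.sum_comm]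
          refine Finset.sum_congr rfl fun c _ => ?_
          conv_rhs => rw [Finset.sum_comm]
          exact Finset.sum_congr rfl fun lam _ => Finset.sum_congr rfl fun phi _ => by ring
      _ = _ := by
          have hlam : ∀ w : P,
              ∑ lam : Cfsg.IrrCharacter P, conj ((lam : P → ℂ) z) * (1 - (lam : P → ℂ) w) =
                if w = z then -(Nat.card P : ℂ) else 0 := by
            intro w
            simp only [mul_sub, mul_one, Finset.sum_sub_distrib]
            have h1 : ∑ lam : Cfsg.IrrCharacter P, conj ((lam : P → ℂ) z) = 0 := by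
              have h := Characters.Complete.sum_degree_mul_apply z
              rw [if_neg hz] at h
              simp only [K.degree_one, one_mul] at h
              rw [← map_sum, h, map_zero]
            have h2 := Characters.Complete.sum_irr_mul_conj w z
            have h3 : IsConj w z ↔ w = z := by
              refine ⟨fun h => ?_, fun h => h ▸ IsConj.refl _⟩
              obtain ⟨c, hc⟩ := isConj_iff.1 h
              rwa [K.comm c, mul_inv_cancel_right] at hc
            have h4 : Subgroup.centralizer ({w} : Set P) = ⊤ :=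
              eq_top_iff.2 fun c _ => Subgroup.mem_centralizer_singleton_iff.2 (K.comm _ _)
            rw [h1, Finset.sum_congr rfl fun lam _ => mul_comm _ _, h2, zero_sub]
            simp only [h3, h4, Subgroup.card_top]
            split_ifs <;> simp
          simp only [hlam, Characters.Complete.sum_degree_mul_apply]
          simp only [mul_ite, ite_mul, mul_zero, zero_mul, Finset.sum_ite_eq',
            Finset.mem_univ, if_true]
          rw [K.card_range, Nat.cast_mul]
          field_simp
  have hsplit : ∑ lam, ∑ phi, F lam phi = ∑ lam : Cfsg.IrrCharacter P,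
      conj ((lam : P → ℂ) z) * (a lam : ℂ) := by
    rw [← Finset.add_sum_erase _ _ (Finset.mem_univ (oneChar P)),
      ← Finset.add_sum_erase _ (fun lam : Cfsg.IrrCharacter P => conj ((lam : P → ℂ) z) * (a lam : ℂ))
        (Finset.mem_univ (oneChar P)), ha0, Int.cast_zero, mul_zero, zero_add]
    have h0 : ∑ phi, F (oneChar P) phi = 0 := Finset.sum_eq_zero fun phi _ => by
      have : K.indT (oneChar P : P → ℂ) (phi : C → ℂ) = 0 := funext fun h => by
        show Cfsg.indFun K.emb.range (K.tfun (oneChar P : P → ℂ) (phi : C → ℂ)) h = 0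
        have : K.tfun (oneChar P : P → ℂ) (phi : C → ℂ) = 0 := funext fun x => by
          simp [tfun, oneChar_apply]
        rw [this, indFun_zero]
        rfl
      simp only [hF]
      rw [this, classInner_zero_left, mul_zero]
    rw [h0, zero_add]
    refine Finset.sum_congr rfl fun lam hlam => ?_
    have hne := Finset.ne_of_mem_erase hlam
    rw [Finset.sum_eq_single (oneChar C)]
    · simp only [hF, oneChar_apply, one_mul, ha lam hne]
    · intro phi _ hp
      simp only [hF, hzero lam phi hne hp, mul_zero]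
    · exact fun h => absurd (Finset.mem_univ _) h
  have h := congrArg conj (hdirect.symm.trans hsplit)
  rw [map_neg, Complex.conj_conj, map_sum] at h
  rw [neg_eq_iff_eq_neg] at h
  rw [h]
  congr 1
  exact Finset.sum_congr rfl fun lam _ => by rw [map_mul, Complex.conj_conj, map_intCast, mul_comm]

set_option maxHeartbeats 1000000 in
/-- The configuration gives a proper normal subgroup containing the involution. -/
theorem exists_normal (K : Config H P C) [Finite P] [Finite C] {t s : H} (ht : orderOf t = 2)
    (hodd : Odd (Nat.card K.emb.range)) (hP : K.e + 1 < Nat.card P)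
    (hcop : K.emb.range.index.Coprime (Subgroup.centralizer ({t} : Set H)).index)
    {r : ℕ} (hr : r.Prime)
    (hbig : ∀ p : ℕ, p.Prime → p ∣ (Subgroup.centralizer ({t} : Set H)).index → p ≠ r → K.e < p)
    (hs : IsConj t s) (hst : IsConj t (s * t)) :
    ∃ N : Subgroup H, N.Normal ∧ N ≠ ⊤ ∧ t ∈ N := by
  classical
  haveI := Fintype.ofFinite P
  haveI := Fintype.ofFinite C
  haveI := Fintype.ofFinite (Cfsg.IrrCharacter H)
  haveI := Fintype.ofFinite (Cfsg.IrrCharacter P)
  set m := (Subgroup.centralizer ({t} : Set H)).index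
  set Λ := {lam : Cfsg.IrrCharacter P // lam ≠ oneChar P}
  have hcardΛ : Nat.card Λ + 1 = Nat.card P := by
    have hcc : Nat.card (ConjClasses P) = Nat.card P := (Nat.card_eq_of_bijective ConjClasses.mk
      ⟨fun a b h => by
        obtain ⟨c, hc⟩ := isConj_iff.1 (ConjClasses.mk_eq_mk_iff_isConj.1 h)
        rwa [K.comm c, mul_inv_cancel_right] at hc, ConjClasses.mk_surjective⟩).symm
    rw [← hcc, ← Characters.Complete.card_irr_eq_card_conjClasses, Nat.card_eq_fintype_card,
      Nat.card_eq_fintype_card, Fintype.card_subtype_compl, Fintype.card_subtype_eq]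
    have : 0 < Fintype.card (Cfsg.IrrCharacter P) := Fintype.card_pos_iff.2 ⟨oneChar P⟩
    omega
  haveI : Nonempty Λ := by
    by_contra h
    haveI := not_nonempty_iff.1 h
    rw [Nat.card_of_isEmpty] at hcardΛ
    omega
  have hgen : ∀ (l : Λ) (phi : Cfsg.IrrCharacter C),
      Cfsg.IsGeneralizedCharacter H (K.indT l.1 (phi : C → ℂ)) := fun l phi =>
    K.isGen_indT (isCharacter_irr _) (isCharacter_irr _)
  choose coef hcoef using fun (l : Λ) (phi : Cfsg.IrrCharacter C) (χ : Cfsg.IrrCharacter H) =>
    Induced.Generalized.exists_classInner_int (hgen l phi) (Induced.Generalized.of_irr χ)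
  choose deg hdeg0 hdeg using fun χ : Cfsg.IrrCharacter H => exists_degree_pos χ
  have htt : t * t = 1 := by rw [← pow_two, ← ht, pow_orderOf_eq_one]
  choose val hval using fun χ : Cfsg.IrrCharacter H => Fg6.NormThree.exists_int_involution χ htt
  have hexp : ∀ (l : Λ) (phi : Cfsg.IrrCharacter C) (g : H),
      K.indT l.1 (phi : C → ℂ) g = ∑ χ, (coef l phi χ : ℂ) * (χ : H → ℂ) g := by
    intro l phi g
    conv_lhs => rw [Induced.Generalized.eq_sum_irr (hgen l phi)]
    simp only [Finset.sum_apply, Pi.smul_apply, smul_eq_mul, hcoef]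
  have hdeg' : ∀ (l : Λ) (phi : Cfsg.IrrCharacter C), ∑ χ, coef l phi χ * (deg χ : ℤ) = 0 := by
    intro l phi
    have h := hexp l phi 1
    rw [K.indT_one (K.degree_one l.1)] at h
    simp only [hdeg] at h
    exact_mod_cast h.symm
  have hval' : ∀ (l : Λ) (phi : Cfsg.IrrCharacter C), ∑ χ, coef l phi χ * val χ = 0 := by
    intro l phi
    have h := hexp l phi t
    rw [K.indT_eq_zero fun g hg => ?_] at h
    · simp only [hval] at h
      exact_mod_cast h.symm
    · have h2 := hodd.of_dvd_nat (Subgroup.orderOf_dvd_natCard _ hg)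
      rw [show g⁻¹ * t * g = g⁻¹ * t * (g⁻¹)⁻¹ by group, orderOf_conj_eq, ht] at h2
      exact absurd h2 (by decide)
  have hinner : ∀ (l m : Λ) (phi psi : Cfsg.IrrCharacter C),
      Cfsg.classInner (K.indT l.1 (phi : C → ℂ)) (K.indT m.1 (psi : C → ℂ)) =
        ((∑ χ, coef l phi χ * coef m psi χ : ℤ) : ℂ) := by
    intro l m phi psi
    rw [Induced.Generalized.classInner_eq_sum (hgen l phi), Int.cast_sum]
    exact Finset.sum_congr rfl fun χ _ => by rw [hcoef, hcoef, map_intCast, Int.cast_mul]
  let DL : Lattice.Data (Cfsg.IrrCharacter H) Λ :=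
    { e := K.e
      one := oneChar H
      deg := fun χ => deg χ
      val := val
      v := fun l χ => coef l (oneChar C) χ
      deg_pos := fun χ => by exact_mod_cast hdeg0 χ
      val_one := by
        have h := hval (oneChar H)
        rw [oneChar_apply] at h
        exact_mod_cast h.symm
      v_one := fun l => by
        have h := hcoef l (oneChar C) (oneChar H)
        rw [K.inner_indT _ _ (isClassFunction_irr _)] at h
        simp only [oneChar_apply, map_one, mul_one, Finset.sum_const, Finset.card_univ,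
          nsmul_eq_mul] at h
        have hz : ∑ z : P, (l.1 : P → ℂ) z = 0 := by
          have h0 := classInner_irr_of_ne l.2
          simp only [Cfsg.classInner, oneChar_apply, map_one, mul_one] at h0
          exact (mul_eq_zero.1 h0).resolve_left (inv_ne_zero natCard_ne_zero)
        rw [← Finset.mul_sum, Finset.sum_sub_distrib, hz, sub_zero, Finset.sum_const,
          Finset.card_univ, nsmul_eq_mul, mul_one, K.card_range, Fintype.card_eq_nat_card,
          Fintype.card_eq_nat_card, Nat.cast_mul, mul_comm (Nat.card P : ℂ) (Nat.card C : ℂ),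
          inv_mul_cancel₀ (mul_ne_zero natCard_ne_zero natCard_ne_zero)] at h
        exact_mod_cast h.symm
      norm := fun l => by
        rcases K.inner_principal l.2 l.2 with ⟨-, h⟩ | h
        · exact absurd rfl h
        · rw [hinner l l] at h
          exact_mod_cast h
      inner := fun l m => by
        rcases K.inner_principal l.2 m.2 with ⟨h, -⟩ | h
        · rw [hinner l m] at h
          exact Or.inl (by exact_mod_cast h)
        · rw [hinner l m] at h
          exact Or.inr (by exact_mod_cast h)
      v_deg := fun l => hdeg' l _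
      v_val := fun l => hval' l _ }
  have hvan : ∀ (χ : Cfsg.IrrCharacter H), (∃ l, DL.v l χ ≠ 0) →
      ∀ (lam : Cfsg.IrrCharacter P) (phi : Cfsg.IrrCharacter C), lam ≠ oneChar P →
        phi ≠ oneChar C → Cfsg.classInner (K.indT lam (phi : C → ℂ)) (χ : H → ℂ) = 0 := by
    rintro χ ⟨l₀, hl₀⟩ lam phi hlam hphi
    rw [hcoef ⟨lam, hlam⟩ phi χ, Int.cast_eq_zero]
    by_contra hne
    refine hl₀ (DL.star_eq_zero (by show K.e < _; omega) (fun l => coef l phi) (fun l => ?_)
      (fun l m hlm => ?_) (fun l => hdeg' l phi) (fun l m => ?_) hne l₀)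
    · have h := (K.inner_nonprincipal l.2 l.2 hphi).1
      rw [hinner l l, if_pos rfl] at h
      exact_mod_cast h
    · have h := (K.inner_nonprincipal l.2 m.2 hphi).1
      rw [hinner l m, if_neg fun e => hlm (Subtype.ext e)] at h
      exact_mod_cast h
    · have h := (K.inner_nonprincipal l.2 m.2 hphi).2
      rw [hinner l m] at h
      exact_mod_cast h
  haveI : Nontrivial P := Finite.one_lt_card_iff_nontrivial.1 (by omega)
  obtain ⟨z, hz⟩ := exists_ne (1 : P)
  have hsum1 : ∑ lam : Cfsg.IrrCharacter P,
      (if lam = oneChar P then (0 : ℂ) else (lam : P → ℂ) z) = -1 := by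
    have h := Characters.Complete.sum_degree_mul_apply z
    rw [if_neg hz] at h
    simp only [K.degree_one, one_mul] at h
    rw [← Finset.add_sum_erase _ _ (Finset.mem_univ (oneChar P)), oneChar_apply] at h
    rw [← Finset.add_sum_erase _ _ (Finset.mem_univ (oneChar P)), if_pos rfl, zero_add,
      Finset.sum_congr rfl fun lam hlam => if_neg (Finset.ne_of_mem_erase hlam)]
    linear_combination h
  set a : Cfsg.IrrCharacter H → Cfsg.IrrCharacter P → ℤ := fun χ lam =>
    if h : lam ≠ oneChar P then coef ⟨lam, h⟩ (oneChar C) χ else 0 with ha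
  have hformula : ∀ χ, (∃ l, DL.v l χ ≠ 0) → (χ : H → ℂ) (K.emb (z, 1)) =
      -∑ lam, (a χ lam : ℂ) * (lam : P → ℂ) z := fun χ hχ =>
    K.apply_eq_sum χ hz (hvan χ hχ) (a χ) (by simp [ha]) fun lam hlam => by
      have e : a χ lam = coef ⟨lam, hlam⟩ (oneChar C) χ := by simp [ha, hlam]
      rw [e]
      exact hcoef ⟨lam, hlam⟩ (oneChar C) χ
  have hint : ∀ χ : Cfsg.IrrCharacter H, IsIntegral ℤ ((K.emb.range.index : ℂ) *
      (χ : H → ℂ) (K.emb (z, 1)) / (deg χ : ℂ)) := by
    intro χ
    obtain ⟨n, ρ, hρ, hρχ⟩ := exists_rep χ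
    haveI := hρ
    have h := Induced.Integral.isIntegral_centralCharacter ρ (K.emb (z, 1))
    rw [show ((Module.finrank ℂ (Fin n → ℂ) : ℕ) : ℂ) = (deg χ : ℂ) by
      rw [← hdeg, ← hρχ, Representation.char_one], hρχ, K.centralizer_eq hz] at h
    exact h
  have hcopint : ∀ c : ℤ, ¬ (r : ℤ) ∣ c → |c| ≤ (K.e : ℤ) → c.natAbs.Coprime m := by
    intro c hrc hce
    refine Nat.coprime_of_dvd fun p hp hpc hpm => ?_
    by_cases hpr : p = r
    · subst hpr; exact hrc (Int.natCast_dvd.2 hpc)
    have h0 : c ≠ 0 := fun h => hrc (h ▸ dvd_zero _)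
    have h1 : p ≤ c.natAbs := Nat.le_of_dvd (Int.natAbs_pos.2 h0) hpc
    have h2 : c.natAbs ≤ K.e := by
      rw [Int.abs_eq_natAbs] at hce
      exact_mod_cast hce
    have h3 := hbig p hp hpm hpr
    omega
  have hdvdnat : ∀ (χ : Cfsg.IrrCharacter H) (c : ℤ),
      (deg χ : ℤ) ∣ (K.emb.range.index : ℤ) * c → ¬ (r : ℤ) ∣ c → |c| ≤ (K.e : ℤ) →
        (deg χ).Coprime m := by
    intro χ c h hrc hce
    have h' := Int.natAbs_dvd_natAbs.2 h
    rw [Int.natAbs_natCast, Int.natAbs_mul, Int.natAbs_natCast] at h'
    exact Nat.Coprime.coprime_dvd_left h' (Nat.Coprime.mul_left hcop (hcopint c hrc hce))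
  have hr1 : ¬ (r : ℤ) ∣ 1 := fun h => hr.not_dvd_one (Int.natCast_dvd_natCast.1 h)
  rcases DL.exists_good hr1 with ⟨χ, c, hone, hv, hrc, hce, hc⟩ | ⟨χ, σ, hM, hv, hrσ, hσ, hsum⟩
  · obtain ⟨l₀⟩ := ‹Nonempty Λ›
    have hc0 : c ≠ 0 := fun h => hrc (h ▸ dvd_zero _)
    have hχz : (χ : H → ℂ) (K.emb (z, 1)) = c := by
      rw [hformula χ ⟨l₀, by rw [hc]; exact hc0⟩, Finset.sum_congr rfl (g := fun lam =>
        (c : ℂ) * if lam = oneChar P then (0 : ℂ) else (lam : P → ℂ) z) fun lam _ => ?_,
        ← Finset.mul_sum, hsum1]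
      · ring
      · by_cases hl : lam = oneChar P
        · simp [ha, hl]
        · rw [if_neg hl, show a χ lam = c from (dif_pos hl).trans (hc _)]
    have hdvd : (deg χ : ℤ) ∣ (K.emb.range.index : ℤ) * c :=
      dvd_of_isIntegral (hdeg0 χ).ne' (by simpa [hχz] using hint χ)
    refine exists_normal_of_coprime htt hst hs χ hone ?_ (hdeg χ) (hdvdnat χ c hdvd hrc ?_)
    · rw [hval]; exact_mod_cast hv
    · change c ^ 2 ≤ (K.e : ℤ) at hce
      have h1 : |c| * 1 ≤ |c| * |c| :=
        mul_le_mul_of_nonneg_left (Int.one_le_abs hc0) (abs_nonneg _)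
      rw [abs_mul_abs_self, mul_one, ← pow_two] at h1
      linarith
  · have hone : χ ≠ oneChar H := fun e => by
      obtain ⟨l, m, h⟩ := hM
      subst e
      exact h ((DL.v_one l).trans (DL.v_one m).symm)
    set s₀ := Finset.univ.filter fun j => DL.Moving j with hs₀
    have hmoving_ne : ∀ j ∈ s₀, ∃ l, DL.v l j ≠ 0 := by
      intro j hj
      obtain ⟨l, m, h⟩ := (Finset.mem_filter.1 hj).2
      by_contra hall
      push Not at hall
      exact h ((hall l).trans (hall m).symm)
    have hχs : ∑ j ∈ s₀, (j : H → ℂ) (K.emb (z, 1)) = σ := by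
      rw [Finset.sum_congr rfl fun j hj => hformula j (hmoving_ne j hj), Finset.sum_neg_distrib,
        Finset.sum_comm, Finset.sum_congr rfl (g := fun lam =>
          (σ : ℂ) * if lam = oneChar P then (0 : ℂ) else (lam : P → ℂ) z)
          fun lam _ => ?_, ← Finset.mul_sum, hsum1]
      · ring
      · rw [← Finset.sum_mul]
        by_cases hl : lam = oneChar P
        · simp [ha, hl]
        rw [if_neg hl, ← hsum ⟨lam, hl⟩ s₀ fun j => by simp [hs₀], Int.cast_sum]
        congr 1
        exact Finset.sum_congr rfl fun j _ => congrArg (fun k : ℤ => (k : ℂ)) (dif_pos hl)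
    have hdvd : (deg χ : ℤ) ∣ (K.emb.range.index : ℤ) * σ := by
      refine dvd_of_isIntegral (hdeg0 χ).ne' ?_
      rw [Int.cast_mul, Int.cast_natCast, ← hχs, Finset.mul_sum, Finset.sum_div]
      refine IsIntegral.sum _ fun j hj => ?_
      have : (deg χ : ℤ) = deg j := (DL.eq_of_moving hM (Finset.mem_filter.1 hj).2).1
      rw [show deg χ = deg j by exact_mod_cast this]
      exact hint j
    refine exists_normal_of_coprime htt hst hs χ hone ?_ (hdeg χ) (hdvdnat χ σ hdvd hrσ hσ)
    rw [hval]
    exact_mod_cast hv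

end Config

end Cfsg.Agent.Lib.BenderOne9.C2
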