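import Cfsg.Agent.Lib.BenderOne9.C2.Lattice
import Cfsg.Agent.Lib.Characters.Linear
import Cfsg.Agent.Lib.Characters.Generalized
import Cfsg.Agent.Lib.Induced.Mackey
import Cfsg.Agent.Lib.Induced.Character

/-!
# Bender's theorem, part I, node C2: the isometry at a semiregular abelian factor

`P × C` is a normal subgroup of `D ≤ H`, with `P` abelian, the elements with non-trivial `P`-part
fused only inside `D`, and `D` acting fixed point freely on both factors.  For irreducible `φ` of
`C` and non-principal `λ` of `P` the functions induced from `(1 - λ) ⊗ φ` are computed.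
-/

set_option autoImplicit false
set_option linter.style.haveILetI false

namespace Cfsg.Agent.Lib.BenderOne9.C2

open Cfsg.Agent.Lib.Characters.Basic Cfsg.Agent.Lib.Induced.Basic
open scoped ComplexConjugate

universe u v w

variable {H : Type u} [Group H] {P : Type v} [Group P] {C : Type w} [Group C]

/-- The configuration. -/
structure Config (H : Type u) [Group H] (P : Type v) [Group P] (C : Type w) [Group C] where
  emb : P × C →* H
  D : Subgroup H
  aP : D → P ≃* P
  aC : D → C ≃* C
  inj : Function.Injective emb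
  le : emb.range ≤ D
  comm : ∀ x y : P, x * y = y * x
  hconj : ∀ (g : D) (z : P) (c : C), (g : H) * emb (z, c) * (g : H)⁻¹ = emb (aP g z, aC g c)
  ti : ∀ (h : H) (z z' : P) (c c' : C), z ≠ 1 → z' ≠ 1 →
    h * emb (z, c) * h⁻¹ = emb (z', c') → h ∈ D
  fpfP : ∀ g : D, (g : H) ∉ emb.range → ∀ z : P, aP g z = z → z = 1
  fpfC : ∀ g : D, (g : H) ∉ emb.range → ∀ c : C, IsConj (aC g c) c → c = 1

namespace Config

variable (K : Config H P C)

/-- The coordinates on the image. -/
noncomputable def coord : K.emb.range ≃* P × C :=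
  (MonoidHom.ofInjective K.inj).symm

theorem emb_coord (x : K.emb.range) : K.emb (K.coord x) = (x : H) := by
  conv_rhs => rw [← (MonoidHom.ofInjective K.inj).apply_symm_apply x]
  rfl

theorem coord_emb (x : P × C) : K.coord ⟨K.emb x, ⟨x, rfl⟩⟩ = x :=
  K.inj (K.emb_coord _)

/-- The index of the image in `D`. -/
noncomputable def e : ℕ := K.emb.range.relIndex K.D

variable [Fintype H]

theorem finite_left (K : Config H P C) : Finite P :=
  Finite.of_injective (fun z => K.emb (z, 1)) fun _ _ h => congrArg Prod.fst (K.inj h)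

theorem finite_right (K : Config H P C) : Finite C :=
  Finite.of_injective (fun c => K.emb (1, c)) fun _ _ h => congrArg Prod.snd (K.inj h)

omit [Fintype H] in
theorem conj_emb (h : H) (hh : h ∈ K.D) (x : P × C) :
    h * K.emb x * h⁻¹ = K.emb (K.aP ⟨h, hh⟩ x.1, K.aC ⟨h, hh⟩ x.2) :=
  K.hconj ⟨h, hh⟩ x.1 x.2

omit [Fintype H] in
theorem aP_mul (g h : K.D) (z : P) : K.aP (g * h) z = K.aP g (K.aP h z) := by
  have h1 := K.hconj (g * h) z 1
  have h2 : ((g * h : K.D) : H) * K.emb (z, 1) * ((g * h : K.D) : H)⁻¹ =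
      (g : H) * ((h : H) * K.emb (z, 1) * (h : H)⁻¹) * (g : H)⁻¹ := by
    rw [Subgroup.coe_mul]; group
  rw [h2, K.hconj, K.hconj] at h1
  exact (congrArg Prod.fst (K.inj h1)).symm

omit [Fintype H] in
theorem aC_mem (x : P × C) (c : C) :
    K.aC ⟨K.emb x, K.le ⟨x, rfl⟩⟩ c = x.2 * c * x.2⁻¹ := by
  have h1 := K.hconj ⟨K.emb x, K.le ⟨x, rfl⟩⟩ 1 c
  rw [← map_mul, ← map_inv, ← map_mul] at h1
  exact (congrArg Prod.snd (K.inj h1)).symm

omit [Fintype H] in
theorem aP_mem {g : K.D} (hg : (g : H) ∈ K.emb.range) (z : P) : K.aP g z = z := by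
  obtain ⟨x, hx⟩ := hg
  have h1 := K.hconj g z 1
  rw [← hx, ← map_mul, ← map_inv, ← map_mul] at h1
  have h2 : x.1 * z * x.1⁻¹ = K.aP g z := congrArg Prod.fst (K.inj h1)
  rw [← h2, K.comm x.1 z, mul_inv_cancel_right]

/-- `(1 - λ) ⊗ φ` on the image. -/
noncomputable def tfun (lam : P → ℂ) (phi : C → ℂ) : K.emb.range → ℂ :=
  fun x => (1 - lam (K.coord x).1) * phi (K.coord x).2

/-- The induced function. -/
noncomputable def indT (lam : P → ℂ) (phi : C → ℂ) : H → ℂ :=
  Cfsg.indFun K.emb.range (K.tfun lam phi)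

omit [Fintype H] in
theorem card_range : Nat.card K.emb.range = Nat.card P * Nat.card C := by
  rw [Nat.card_congr K.coord.toEquiv, Nat.card_prod]

theorem card_D : Nat.card K.D = K.e * Nat.card K.emb.range := by
  rw [mul_comm, ← Nat.card_congr (Subgroup.subgroupOfEquivOfLe K.le).toEquiv, Config.e,
    Subgroup.relIndex, Subgroup.card_mul_index]

theorem isGen_indT {lam : P → ℂ} {phi : C → ℂ} (hl : Cfsg.IsCharacter P lam)
    (hp : Cfsg.IsCharacter C phi) : Cfsg.IsGeneralizedCharacter H (K.indT lam phi) := by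
  refine Induced.Character.isGeneralizedCharacter_indFun _
    ⟨phi ∘ ((MonoidHom.snd P C).comp K.coord.toMonoidHom),
      fun x => lam (K.coord x).1 * phi (K.coord x).2,
      isCharacter_comp _ hp, isCharacter_mul
        (isCharacter_comp ((MonoidHom.fst P C).comp K.coord.toMonoidHom) hl)
        (isCharacter_comp ((MonoidHom.snd P C).comp K.coord.toMonoidHom) hp), funext fun x => ?_⟩
  simp [tfun, sub_mul]

theorem indT_eq_zero {lam : P → ℂ} {phi : C → ℂ} {h : H}
    (hh : ∀ g : H, g⁻¹ * h * g ∉ K.emb.range) : K.indT lam phi h = 0 :=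
  indFun_eq_zero_of_forall_not_mem _ _ hh

theorem indT_one {lam : P → ℂ} {phi : C → ℂ} (hl : lam 1 = 1) : K.indT lam phi 1 = 0 := by
  have h : K.tfun lam phi 1 = 0 := by simp [tfun, hl]
  rw [indT, indFun_one, h, mul_zero]

/-- The value at an element with non-trivial first coordinate. -/
theorem indT_apply [Fintype K.D] {lam : P → ℂ} {phi : C → ℂ} (hl : lam 1 = 1) {z : P} (hz : z ≠ 1)
    (c : C) : K.indT lam phi (K.emb (z, c)) =
      (Nat.card K.emb.range : ℂ)⁻¹ * ∑ g : K.D, (1 - lam (K.aP g z)) * phi (K.aC g c) := by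
  classical
  show (Nat.card K.emb.range : ℂ)⁻¹ * _ = _
  congr 1
  set F : H → ℂ := fun h => Cfsg.extendByZero K.emb.range (K.tfun lam phi)
    (h * K.emb (z, c) * h⁻¹) with hF
  have h0 : ∑ x : H, Cfsg.extendByZero K.emb.range (K.tfun lam phi)
      (x⁻¹ * K.emb (z, c) * x) = ∑ h : H, F h :=
    Fintype.sum_equiv (Equiv.inv H) _ _ fun x => by simp [hF]
  have h1 : ∀ h ∉ K.D, F h = 0 := by
    intro h hh
    by_cases hm : h * K.emb (z, c) * h⁻¹ ∈ K.emb.range
    · obtain ⟨⟨z', c'⟩, hx⟩ := id hm
      have hz' : z' = 1 := by_contra fun hz' => hh (K.ti h z z' c c' hz hz' hx.symm)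
      rw [hF]
      show Cfsg.extendByZero _ _ _ = 0
      rw [extendByZero_of_mem _ _ hm]
      simp [tfun, show (⟨_, hm⟩ : K.emb.range) = ⟨K.emb (z', c'), ⟨_, rfl⟩⟩ from
        Subtype.ext hx.symm, K.coord_emb, hz', hl]
    · exact extendByZero_of_not_mem _ _ hm
  have h2 : ∀ g : K.D, F g = (1 - lam (K.aP g z)) * phi (K.aC g c) := fun g => by
    have hm : (g : H) * K.emb (z, c) * (g : H)⁻¹ ∈ K.emb.range := ⟨_, (K.hconj g z c).symm⟩
    rw [hF]
    show Cfsg.extendByZero _ _ _ = _
    rw [extendByZero_of_mem _ _ hm]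
    simp [tfun, show (⟨_, hm⟩ : K.emb.range) = ⟨K.emb (K.aP g z, K.aC g c), ⟨_, rfl⟩⟩ from
      Subtype.ext (K.hconj g z c), K.coord_emb]
  rw [h0, ← Finset.sum_subset (Finset.subset_univ (Finset.univ.filter (· ∈ K.D)))
    fun h _ hh => h1 h fun hD => hh (Finset.mem_filter.2 ⟨Finset.mem_univ _, hD⟩)]
  rw [Finset.sum_subtype _ (fun x => by simp : ∀ x, x ∈ Finset.univ.filter (· ∈ K.D) ↔ x ∈ K.D) F]
  exact Finset.sum_congr rfl fun g _ => h2 g

variable [Fintype P] [Fintype C]

omit [Fintype H] in
/-- Averages over the image. -/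
theorem sum_range [Fintype K.emb.range] (f : K.emb.range → ℂ) :
    ∑ x : K.emb.range, f x = ∑ z : P, ∑ c : C, f ⟨K.emb (z, c), ⟨_, rfl⟩⟩ := by
  rw [← Fintype.sum_prod_type']
  exact Fintype.sum_equiv K.coord.toEquiv _ _ fun x => by
    congr 1
    exact Subtype.ext (K.emb_coord x).symm

/-- The inner product with a class function. -/
theorem inner_indT (lam : P → ℂ) (phi : C → ℂ) {f : H → ℂ} (hf : Cfsg.IsClassFunction H f) :
    Cfsg.classInner (K.indT lam phi) f = (Nat.card K.emb.range : ℂ)⁻¹ *
      ∑ z : P, ∑ c : C, (1 - lam z) * phi c * conj (f (K.emb (z, c))) := by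
  classical
  haveI := Fintype.ofFinite K.emb.range
  rw [indT, frobenius_reciprocity _ _ hf, Cfsg.classInner, K.sum_range]
  congr 1
  exact Finset.sum_congr rfl fun z _ => Finset.sum_congr rfl fun c _ => by
    simp [tfun, K.coord_emb]

/-- Two induced functions. -/
theorem inner_indT_indT [Fintype K.D] {lam mu : P → ℂ} (hl : lam 1 = 1) (hm : mu 1 = 1)
    (phi psi : C → ℂ) :
    (Nat.card K.emb.range : ℂ) * Cfsg.classInner (K.indT lam phi) (K.indT mu psi) =
      ∑ g : K.D, Cfsg.classInner (fun z => 1 - lam z) (fun z => 1 - mu (K.aP g z)) *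
        Cfsg.classInner phi (fun c => psi (K.aC g c)) := by
  classical
  have hR : (Nat.card K.emb.range : ℂ) ≠ 0 := subgroup_card_ne_zero _
  rw [K.inner_indT lam phi (f := K.indT mu psi) (isClassFunction_indFun _ _), ← mul_assoc, mul_inv_cancel₀ hR, one_mul]
  have hval : ∀ z c, (1 - lam z) * phi c * conj (K.indT mu psi (K.emb (z, c))) =
      (Nat.card K.emb.range : ℂ)⁻¹ * ∑ g : K.D, (1 - lam z) * conj (1 - mu (K.aP g z)) *
        (phi c * conj (psi (K.aC g c))) := by
    intro z c
    by_cases hz : z = 1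
    · subst hz
      simp [hl]
    rw [K.indT_apply hm hz, map_mul, map_inv₀, map_natCast, map_sum, Finset.mul_sum,
      Finset.mul_sum, Finset.mul_sum]
    exact Finset.sum_congr rfl fun g _ => by rw [map_mul]; ring
  simp only [hval]
  simp only [Finset.mul_sum]
  calc ∑ z : P, ∑ c : C, ∑ g : K.D, (Nat.card K.emb.range : ℂ)⁻¹ *
        ((1 - lam z) * conj (1 - mu (K.aP g z)) * (phi c * conj (psi (K.aC g c))))
      = ∑ g : K.D, ∑ z : P, ∑ c : C, (Nat.card K.emb.range : ℂ)⁻¹ *
        ((1 - lam z) * conj (1 - mu (K.aP g z)) * (phi c * conj (psi (K.aC g c)))) := by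
        rw [Finset.sum_congr rfl fun z _ => Finset.sum_comm, Finset.sum_comm]
    _ = _ := by
        refine Finset.sum_congr rfl fun g _ => ?_
        rw [Cfsg.classInner, Cfsg.classInner, K.card_range, Nat.cast_mul, mul_inv]
        simp only [Finset.mul_sum, Finset.sum_mul]
        rw [Finset.sum_comm]
        exact Finset.sum_congr rfl fun c _ => Finset.sum_congr rfl fun z _ => by ring

variable {K}

omit [Fintype H] [Fintype P] [Fintype C] in
theorem degree_one (K : Config H P C) [Finite P] (lam : Cfsg.IrrCharacter P) :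
    (lam : P → ℂ) 1 = 1 :=
  Characters.Linear.degree_eq_one_of_comm K.comm lam

omit [Fintype H] [Fintype C] in
/-- The inner product of `1 - λ` and `1 - μ`. -/
theorem inner_one_sub {lam mu : Cfsg.IrrCharacter P} (hl : lam ≠ oneChar P) (hm : mu ≠ oneChar P) :
    Cfsg.classInner (fun z => 1 - (lam : P → ℂ) z) (fun z => 1 - (mu : P → ℂ) z) =
      1 + if lam = mu then 1 else 0 := by
  have e : ∀ f : P → ℂ, (fun z => 1 - f z) = (oneChar P : P → ℂ) - f := fun f =>
    funext fun z => by simp [oneChar_apply]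
  rw [e, e, classInner_sub_left, classInner_sub_right, classInner_sub_right, classInner_irr,
    classInner_irr, classInner_irr, classInner_irr, if_pos rfl, if_neg hm.symm, if_neg hl]
  ring

variable (K)

/-- A character fixed outside the image is principal. -/
theorem eq_one_of_fixP {g : K.D} (hg : (g : H) ∉ K.emb.range) {lam : Cfsg.IrrCharacter P}
    (h : (lam : P → ℂ) ∘ K.aP g = lam) : lam = oneChar P := by
  refine Subtype.ext (Induced.Mackey.eq_one_of_fixed (K.aP g) (fun z hz => K.fpfP g hg z ?_) lam.2 h)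
  obtain ⟨c, hc⟩ := isConj_iff.1 hz
  calc K.aP g z = c * K.aP g z * c⁻¹ := by rw [K.comm c, mul_inv_cancel_right]
    _ = z := hc

omit [Fintype H] [Fintype P] in
/-- A character of the second factor fixed outside the image is principal. -/
theorem eq_one_of_fixC {g : K.D} (hg : (g : H) ∉ K.emb.range) {phi : Cfsg.IrrCharacter C}
    (h : (phi : C → ℂ) ∘ K.aC g = phi) : phi = oneChar C :=
  Subtype.ext (Induced.Mackey.eq_one_of_fixed (K.aC g) (K.fpfC g hg) phi.2 h)

/-- The norm and the products in the principal family. -/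
theorem inner_principal {lam mu : Cfsg.IrrCharacter P} (hl : lam ≠ oneChar P)
    (hm : mu ≠ oneChar P) :
    (Cfsg.classInner (K.indT lam (oneChar C : C → ℂ)) (K.indT mu (oneChar C : C → ℂ)) =
        ((K.e : ℤ) : ℂ) ∧ lam ≠ mu) ∨
      Cfsg.classInner (K.indT lam (oneChar C : C → ℂ)) (K.indT mu (oneChar C : C → ℂ)) =
        (((K.e : ℤ) + 1 : ℤ) : ℂ) := by
  classical
  haveI := Fintype.ofFinite K.D
  have hR : (Nat.card K.emb.range : ℂ) ≠ 0 := subgroup_card_ne_zero _
  set S := Finset.univ.filter fun g : K.D => (mu : P → ℂ) ∘ K.aP g = lam with hS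
  have key := K.inner_indT_indT (K.degree_one lam) (K.degree_one mu) (oneChar C : C → ℂ)
    (oneChar C : C → ℂ)
  have hg : ∀ g : K.D, Cfsg.classInner (fun z => 1 - (lam : P → ℂ) z)
      (fun z => 1 - (mu : P → ℂ) (K.aP g z)) *
        Cfsg.classInner (oneChar C : C → ℂ) (fun c => (oneChar C : C → ℂ) (K.aC g c)) =
      1 + if (mu : P → ℂ) ∘ K.aP g = lam then 1 else 0 := by
    intro g
    set mu' : Cfsg.IrrCharacter P := ⟨(mu : P → ℂ) ∘ K.aP g,
      isIrrCharacter_comp (K.aP g).toMonoidHom (K.aP g).surjective mu.2⟩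
    have hm' : mu' ≠ oneChar P := fun e => hm (Subtype.ext (funext fun z => by
      have := congrFun (congrArg Subtype.val e) ((K.aP g).symm z)
      simpa [mu', oneChar_apply] using this))
    have h1 : Cfsg.classInner (oneChar C : C → ℂ) (fun c => (oneChar C : C → ℂ) (K.aC g c)) = 1 :=
      classInner_self_irr (oneChar C)
    rw [h1, mul_one]
    refine (inner_one_sub hl hm').trans ?_
    congr 1
    exact if_congr ⟨fun e => (congrArg Subtype.val e).symm, fun e => (Subtype.ext e).symm⟩ rfl rfl
  rw [Finset.sum_congr rfl fun g _ => hg g, Finset.sum_add_distrib, Finset.sum_const,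
    Finset.sum_boole, Finset.card_univ, Fintype.card_eq_nat_card, K.card_D, nsmul_eq_mul, mul_one,
    Nat.cast_mul] at key
  rcases S.eq_empty_or_nonempty with h0 | ⟨g₀, hg₀⟩
  · refine Or.inl ⟨mul_left_cancel₀ hR (key.trans ?_), ?_⟩
    · rw [← hS, h0, Finset.card_empty, Nat.cast_zero, add_zero, Int.cast_natCast, mul_comm]
    · rintro rfl
      have : (1 : K.D) ∈ S := Finset.mem_filter.2 ⟨Finset.mem_univ _,
        funext fun z => congrArg (lam : P → ℂ) (K.aP_mem (g := 1) (one_mem _) z)⟩
      rw [h0] at this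
      exact Finset.notMem_empty _ this
  · refine Or.inr (mul_left_cancel₀ hR (key.trans ?_))
    have hmem : ∀ g : K.D, g ∈ S ↔ ((g * g₀⁻¹ : K.D) : H) ∈ K.emb.range := by
      intro g
      have hg₀' := (Finset.mem_filter.1 hg₀).2
      have hsplit : ∀ z, K.aP g z = K.aP (g * g₀⁻¹) (K.aP g₀ z) := fun z => by
        rw [← K.aP_mul, inv_mul_cancel_right]
      constructor
      · intro hgS
        by_contra hn
        refine hm (K.eq_one_of_fixP hn (funext fun z => ?_))
        have h1 := congrFun (Finset.mem_filter.1 hgS).2 ((K.aP g₀).symm z)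
        have h2 := congrFun hg₀' ((K.aP g₀).symm z)
        rw [Function.comp_apply, hsplit, MulEquiv.apply_symm_apply] at h1
        rw [Function.comp_apply, MulEquiv.apply_symm_apply] at h2
        rw [Function.comp_apply, h1, h2]
      · intro hgR
        refine Finset.mem_filter.2 ⟨Finset.mem_univ _, funext fun z => ?_⟩
        rw [Function.comp_apply, hsplit, K.aP_mem hgR]
        exact congrFun hg₀' z
    have hcard : S.card = Nat.card K.emb.range := by
      haveI := Fintype.ofFinite K.emb.range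
      rw [Nat.card_eq_fintype_card, ← Finset.card_univ]
      refine Finset.card_bij' (fun g hg => ⟨_, (hmem g).1 hg⟩)
        (fun x _ => ⟨(x : H), K.le x.2⟩ * g₀) (fun _ _ => Finset.mem_univ _)
        (fun x _ => (hmem _).2 ?_) (fun g _ => ?_) (fun x _ => ?_)
      · rw [mul_inv_cancel_right]; exact x.2
      · exact inv_mul_cancel_right g g₀
      · exact Subtype.ext (by simp)
    rw [← hS, hcard, Int.cast_add, Int.cast_natCast, Int.cast_one]
    ring

/-- The families of non-principal characters of the second factor. -/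
theorem inner_nonprincipal {lam mu : Cfsg.IrrCharacter P} (hl : lam ≠ oneChar P)
    (hm : mu ≠ oneChar P) {phi : Cfsg.IrrCharacter C} (hp : phi ≠ oneChar C) :
    Cfsg.classInner (K.indT lam (phi : C → ℂ)) (K.indT mu (phi : C → ℂ)) =
        ((1 + if lam = mu then 1 else 0 : ℤ) : ℂ) ∧
      Cfsg.classInner (K.indT lam (phi : C → ℂ)) (K.indT mu (oneChar C : C → ℂ)) = 0 := by
  classical
  haveI := Fintype.ofFinite K.D
  have hR : (Nat.card K.emb.range : ℂ) ≠ 0 := subgroup_card_ne_zero _
  constructor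
  · refine mul_left_cancel₀ hR
      ((K.inner_indT_indT (K.degree_one lam) (K.degree_one mu) _ _).trans ?_)
    set R₀ := Finset.univ.filter fun g : K.D => (g : H) ∈ K.emb.range with hR₀
    have hg : ∀ g : K.D, Cfsg.classInner (fun z => 1 - (lam : P → ℂ) z)
        (fun z => 1 - (mu : P → ℂ) (K.aP g z)) *
          Cfsg.classInner (phi : C → ℂ) (fun c => (phi : C → ℂ) (K.aC g c)) =
        if (g : H) ∈ K.emb.range then (1 + if lam = mu then 1 else 0 : ℂ) else 0 := by
      intro g
      by_cases hgR : (g : H) ∈ K.emb.range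
      · have h1 : (fun c => (phi : C → ℂ) (K.aC g c)) = (phi : C → ℂ) := by
          obtain ⟨x, hx⟩ := hgR
          rw [show g = ⟨K.emb x, K.le ⟨x, rfl⟩⟩ from Subtype.ext hx.symm]
          funext c
          rw [K.aC_mem]
          exact isClassFunction_irr phi c x.2
        rw [if_pos hgR, h1, classInner_self_irr, mul_one]
        simp only [K.aP_mem hgR]
        exact inner_one_sub hl hm
      · rw [if_neg hgR]
        set phi' : Cfsg.IrrCharacter C := ⟨(phi : C → ℂ) ∘ K.aC g,
          isIrrCharacter_comp (K.aC g).toMonoidHom (K.aC g).surjective phi.2⟩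
        rw [show (fun c => (phi : C → ℂ) (K.aC g c)) = (phi' : C → ℂ) from rfl,
          classInner_irr_of_ne fun e => hp (K.eq_one_of_fixC hgR (congrArg Subtype.val e).symm),
          mul_zero]
    rw [Finset.sum_congr rfl fun g _ => hg g, Finset.sum_ite, Finset.sum_const, Finset.sum_const_zero,
      add_zero, nsmul_eq_mul]
    have hc : R₀.card = Nat.card K.emb.range := by
      haveI := Fintype.ofFinite K.emb.range
      rw [Nat.card_eq_fintype_card, ← Finset.card_univ]
      exact Finset.card_bij' (fun g hg => ⟨(g : H), (Finset.mem_filter.1 hg).2⟩)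
        (fun x _ => ⟨(x : H), K.le x.2⟩) (fun _ _ => Finset.mem_univ _)
        (fun x _ => Finset.mem_filter.2 ⟨Finset.mem_univ _, x.2⟩) (fun _ _ => rfl) (fun _ _ => rfl)
    rw [← hR₀, hc]
    split_ifs <;> norm_num
  · refine mul_left_cancel₀ hR
      ((K.inner_indT_indT (K.degree_one lam) (K.degree_one mu) _ _).trans ?_)
    rw [mul_zero]
    refine Finset.sum_eq_zero fun g _ => ?_
    rw [show (fun c => (oneChar C : C → ℂ) (K.aC g c)) = (oneChar C : C → ℂ) from rfl,
      classInner_irr_of_ne hp, mul_zero]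

end Config

end Cfsg.Agent.Lib.BenderOne9.C2
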