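import Mathlib

/-!
# Bender's theorem, part I, node C2: coefficient vectors of an isometry

Integer vectors of norm `e + 1` with pairwise products `e` or `e + 1`, orthogonal to two weight
vectors (degree and value at an involution), and vectors of norm two orthogonal to them.
-/

set_option autoImplicit false
set_option linter.style.haveILetI false

namespace Cfsg.Agent.Lib.BenderOne9.C2.Lattice

variable {I Λ : Type*} [Fintype I]

/-- A vector of norm two orthogonal to a positive weight is a difference of two unit vectors of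
equal weight. -/
theorem exists_pair [DecidableEq I] {d w : I → ℤ} (hd : ∀ i, 0 < d i) (hn : ∑ i, w i * w i = 2)
    (h0 : ∑ i, w i * d i = 0) :
    ∃ a b, a ≠ b ∧ d a = d b ∧ w = Pi.single a 1 - Pi.single b 1 := by
  have hsmall : ∀ i, w i = -1 ∨ w i = 0 ∨ w i = 1 := by
    intro i
    have hle : w i * w i ≤ 2 := hn ▸ Finset.single_le_sum (f := fun j => w j * w j)
      (fun j _ => mul_self_nonneg _) (Finset.mem_univ i)
    have : -1 ≤ w i ∧ w i ≤ 1 := ⟨by nlinarith, by nlinarith⟩
    omega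
  set S := Finset.univ.filter fun i => w i ≠ 0 with hS
  have hcard : S.card = 2 := by
    have h' : (S.card : ℤ) = ∑ i, w i * w i := by
      rw [hS, Finset.card_filter, Nat.cast_sum]
      refine Finset.sum_congr rfl fun i _ => ?_
      rcases hsmall i with hc | hc | hc <;> simp [hc]
    rw [hn] at h'
    exact_mod_cast h'
  obtain ⟨a, b, hab, hSab⟩ := Finset.card_eq_two.1 hcard
  have hout : ∀ i, i ≠ a → i ≠ b → w i = 0 := by
    intro i hia hib
    by_contra h
    have : i ∈ S := Finset.mem_filter.2 ⟨Finset.mem_univ _, h⟩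
    rw [hSab, Finset.mem_insert, Finset.mem_singleton] at this
    exact this.elim hia hib
  have hmem : ∀ i ∈ S, w i = -1 ∨ w i = 1 := fun i hi =>
    (hsmall i).imp id (Or.resolve_left · (Finset.mem_filter.1 hi).2)
  have ha := hmem a (by simp [hSab])
  have hb := hmem b (by simp [hSab])
  have hsum : w a * d a + w b * d b = 0 := by
    rw [← h0, ← Finset.sum_pair (f := fun i => w i * d i) hab]
    refine Finset.sum_subset (Finset.subset_univ _) fun i _ hi => ?_
    simp only [Finset.mem_insert, Finset.mem_singleton, not_or] at hi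
    rw [hout i hi.1 hi.2, zero_mul]
  have h1 := hd a
  have h2 := hd b
  have build : ∀ x y, x ≠ y → w x = 1 → w y = -1 → (∀ i, i ≠ x → i ≠ y → w i = 0) →
      w = Pi.single x 1 - Pi.single y 1 := by
    intro x y hxy hx hy ho
    funext i
    rw [Pi.sub_apply]
    rcases eq_or_ne i x with rfl | hix
    · rw [Pi.single_eq_same, Pi.single_eq_of_ne hxy, hx, sub_zero]
    rcases eq_or_ne i y with rfl | hiy
    · rw [Pi.single_eq_same, Pi.single_eq_of_ne hix, hy, zero_sub]
    · rw [Pi.single_eq_of_ne hix, Pi.single_eq_of_ne hiy, ho i hix hiy, sub_zero]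
  rcases ha with ha | ha <;> rcases hb with hb | hb <;> rw [ha, hb] at hsum
  · exfalso; linarith
  · exact ⟨b, a, hab.symm, by linarith, build b a hab.symm hb ha fun i h h' => hout i h' h⟩
  · exact ⟨a, b, hab, by linarith, build a b hab ha hb hout⟩
  · exfalso; linarith

/-- Products of differences of unit vectors. -/
theorem sum_pair_mul [DecidableEq I] (a b : I) (f : I → ℤ) :
    ∑ i, (Pi.single a 1 - Pi.single b 1 : I → ℤ) i * f i = f a - f b := by
  simp [sub_mul, Finset.sum_sub_distrib, Pi.single_apply]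

/-- The coefficient vectors: `v l` is that of a generalized character of norm `e + 1` containing
the principal character once and vanishing at `1` and at the involution. -/
structure Data (I Λ : Type*) [Fintype I] where
  e : ℕ
  one : I
  deg : I → ℤ
  val : I → ℤ
  v : Λ → I → ℤ
  deg_pos : ∀ i, 0 < deg i
  val_one : val one = 1
  v_one : ∀ l, v l one = 1
  norm : ∀ l, ∑ i, v l i * v l i = (e : ℤ) + 1
  inner : ∀ l m, ∑ i, v l i * v m i = (e : ℤ) ∨ ∑ i, v l i * v m i = (e : ℤ) + 1
  v_deg : ∀ l, ∑ i, v l i * deg i = 0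
  v_val : ∀ l, ∑ i, v l i * val i = 0

namespace Data

variable (D : Data I Λ)

/-- The indices whose coefficient is not constant. -/
def Moving (i : I) : Prop :=
  ∃ l m, D.v l i ≠ D.v m i

theorem pair_of_ne {l m : Λ} {i : I} (h : D.v l i ≠ D.v m i) [DecidableEq I] :
    ∃ a b, a ≠ b ∧ D.deg a = D.deg b ∧ D.val a = D.val b ∧
      (fun j => D.v l j - D.v m j) = Pi.single a 1 - Pi.single b 1 := by
  have hexp : ∑ j, (D.v l j - D.v m j) * (D.v l j - D.v m j) =
      ∑ j, D.v l j * D.v l j + ∑ j, D.v m j * D.v m j - 2 * ∑ j, D.v l j * D.v m j := by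
    rw [Finset.mul_sum, ← Finset.sum_add_distrib, ← Finset.sum_sub_distrib]
    exact Finset.sum_congr rfl fun j _ => by ring
  have hn : ∑ j, (D.v l j - D.v m j) * (D.v l j - D.v m j) = 2 := by
    rcases D.inner l m with h' | h'
    · rw [hexp, D.norm, D.norm, h']; ring
    · exfalso
      have hz : ∑ j, (D.v l j - D.v m j) * (D.v l j - D.v m j) = 0 := by
        rw [hexp, D.norm, D.norm, h']; ring
      have := (Finset.sum_eq_zero_iff_of_nonneg fun j _ => mul_self_nonneg _).1 hz i
        (Finset.mem_univ _)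
      exact h (sub_eq_zero.1 (mul_self_eq_zero.1 this))
  obtain ⟨a, b, hab, hdab, hw⟩ := exists_pair D.deg_pos (w := fun j => D.v l j - D.v m j) hn (by
    simp only [sub_mul, Finset.sum_sub_distrib, D.v_deg, sub_zero])
  refine ⟨a, b, hab, hdab, ?_, hw⟩
  have h1 : ∑ j, (fun j => D.v l j - D.v m j) j * D.val j = 0 := by
    simp only [sub_mul, Finset.sum_sub_distrib, D.v_val, sub_zero]
  rw [hw, sum_pair_mul, sub_eq_zero] at h1
  exact h1

/-- All moving indices have the same degree and the same value. -/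
theorem eq_of_moving {i j : I} (hi : D.Moving i) (hj : D.Moving j) :
    D.deg i = D.deg j ∧ D.val i = D.val j := by
  classical
  obtain ⟨l₀, -, -⟩ := id hi
  -- every moving index moves against `l₀`
  have key : ∀ {k : I}, D.Moving k → ∃ l, D.v l k ≠ D.v l₀ k := by
    rintro k ⟨l, m, h⟩
    by_contra hall
    push Not at hall
    exact h ((hall l).trans (hall m).symm)
  obtain ⟨l, hl⟩ := key hi
  obtain ⟨m, hm⟩ := key hj
  obtain ⟨a, b, hab, hd₁, hv₁, hw₁⟩ := D.pair_of_ne hl
  obtain ⟨a', b', hab', hd₂, hv₂, hw₂⟩ := D.pair_of_ne hm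
  have hsupp : ∀ {k x y : I} {n : Λ}, (fun j => D.v n j - D.v l₀ j) =
      Pi.single x 1 - Pi.single y 1 → D.v n k ≠ D.v l₀ k → k = x ∨ k = y := by
    intro k x y n hw hk
    by_contra hne
    push Not at hne
    have h := congrFun hw k
    rw [Pi.sub_apply, Pi.single_eq_of_ne hne.1, Pi.single_eq_of_ne hne.2, sub_zero] at h
    exact hk (sub_eq_zero.1 h)
  have hi' : D.deg i = D.deg a ∧ D.val i = D.val a := by
    rcases hsupp hw₁ hl with rfl | rfl
    · exact ⟨rfl, rfl⟩
    · exact ⟨hd₁.symm, hv₁.symm⟩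
  have hj' : D.deg j = D.deg a' ∧ D.val j = D.val a' := by
    rcases hsupp hw₂ hm with rfl | rfl
    · exact ⟨rfl, rfl⟩
    · exact ⟨hd₂.symm, hv₂.symm⟩
  rw [hi'.1, hi'.2, hj'.1, hj'.2]
  -- the two pairs meet
  have hip : 0 < ∑ k, (D.v l k - D.v l₀ k) * (D.v m k - D.v l₀ k) := by
    have hexp : ∑ k, (D.v l k - D.v l₀ k) * (D.v m k - D.v l₀ k) =
        ∑ k, D.v l k * D.v m k + ∑ k, D.v l₀ k * D.v l₀ k - ∑ k, D.v l k * D.v l₀ k
          - ∑ k, D.v m k * D.v l₀ k := by
      rw [← Finset.sum_add_distrib, ← Finset.sum_sub_distrib, ← Finset.sum_sub_distrib]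
      exact Finset.sum_congr rfl fun k _ => by ring
    have hne : ∀ {n : Λ} {k : I}, D.v n k ≠ D.v l₀ k →
        ∑ k, D.v n k * D.v l₀ k = (D.e : ℤ) := by
      intro n k hk
      refine (D.inner n l₀).resolve_right fun h' => ?_
      have hz : ∑ j, (D.v n j - D.v l₀ j) * (D.v n j - D.v l₀ j) = 0 := by
        have : ∑ j, (D.v n j - D.v l₀ j) * (D.v n j - D.v l₀ j) = ∑ j, D.v n j * D.v n j +
            ∑ j, D.v l₀ j * D.v l₀ j - 2 * ∑ j, D.v n j * D.v l₀ j := by
          rw [Finset.mul_sum, ← Finset.sum_add_distrib, ← Finset.sum_sub_distrib]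
          exact Finset.sum_congr rfl fun j _ => by ring
        rw [this, D.norm, D.norm, h']; ring
      exact hk (sub_eq_zero.1 (mul_self_eq_zero.1
        ((Finset.sum_eq_zero_iff_of_nonneg fun j _ => mul_self_nonneg _).1 hz k
          (Finset.mem_univ _))))
    rw [hexp, D.norm, hne hl, hne hm]
    rcases D.inner l m with h' | h' <;> rw [h'] <;> linarith
  have hip' : ∑ k, (D.v l k - D.v l₀ k) * (D.v m k - D.v l₀ k) =
      ∑ k, (Pi.single a 1 - Pi.single b 1 : I → ℤ) k *
        (Pi.single a' 1 - Pi.single b' 1 : I → ℤ) k :=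
    Finset.sum_congr rfl fun k _ => by rw [← congrFun hw₁ k, ← congrFun hw₂ k]
  rw [hip', sum_pair_mul] at hip
  simp only [Pi.sub_apply, Pi.single_apply] at hip
  by_cases h1 : a = a'
  · subst h1; exact ⟨rfl, rfl⟩
  by_cases h2 : b = b'
  · subst h2; exact ⟨hd₁.trans hd₂.symm, hv₁.trans hv₂.symm⟩
  rw [if_neg h1, if_neg h2] at hip
  split_ifs at hip <;> omega

/-- The dichotomy: a constant coefficient not divisible by `r` at an index of non-zero value, or
the moving indices have non-zero value and their coefficients have a constant sum, not divisible by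
`r` and of absolute value at most `e`. -/
theorem exists_good [Nonempty Λ] {r : ℤ} (hr : ¬ r ∣ 1) :
    (∃ i c, i ≠ D.one ∧ D.val i ≠ 0 ∧ ¬ r ∣ c ∧ c ^ 2 ≤ (D.e : ℤ) ∧ ∀ l, D.v l i = c) ∨
      ∃ i σ, D.Moving i ∧ D.val i ≠ 0 ∧ ¬ r ∣ σ ∧ |σ| ≤ (D.e : ℤ) ∧
        ∀ (l : Λ) (s : Finset I), (∀ j, j ∈ s ↔ D.Moving j) → ∑ j ∈ s, D.v l j = σ := by
  classical
  obtain ⟨l₀⟩ := ‹Nonempty Λ›
  have hone : ¬ D.Moving D.one := fun ⟨l, m, h⟩ => h ((D.v_one l).trans (D.v_one m).symm)
  have hconst : ∀ {j}, ¬ D.Moving j → ∀ l, D.v l j = D.v l₀ j := fun hj l =>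
    not_not.1 fun h => hj ⟨l, l₀, h⟩
  by_cases hc : ∃ i, i ≠ D.one ∧ ¬ D.Moving i ∧ ¬ r ∣ D.v l₀ i ∧ D.val i ≠ 0
  · obtain ⟨i, hi, hM, hne, hval⟩ := hc
    refine Or.inl ⟨i, D.v l₀ i, hi, hval, hne, ?_, hconst hM⟩
    have hle : ∑ j ∈ ({D.one, i} : Finset I), D.v l₀ j * D.v l₀ j ≤ (D.e : ℤ) + 1 :=
      (D.norm l₀) ▸ Finset.sum_le_sum_of_subset_of_nonneg (Finset.subset_univ _)
        fun j _ _ => mul_self_nonneg _
    rw [Finset.sum_pair hi.symm, D.v_one] at hle
    rw [pow_two]
    linarith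
  push Not at hc
  refine Or.inr ?_
  set s₀ := Finset.univ.filter fun j => D.Moving j with hs₀
  set s₁ := Finset.univ.filter fun j => j ≠ D.one ∧ ¬ D.Moving j with hs₁
  have hrest : r ∣ ∑ j ∈ s₁, D.v l₀ j * D.val j := Finset.dvd_sum fun j hj => by
    obtain ⟨hj1, hjM⟩ := (Finset.mem_filter.1 hj).2
    by_cases h : r ∣ D.v l₀ j
    · exact h.mul_right _
    · rw [hc j hj1 hjM h, mul_zero]; exact dvd_zero r
  have htot : ∀ l, 1 + ∑ j ∈ s₁, D.v l₀ j * D.val j + ∑ j ∈ s₀, D.v l j * D.val j = 0 := by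
    intro l
    have h1 : D.one ∉ s₁ ∪ s₀ := fun h => by
      rcases Finset.mem_union.1 h with h | h
      · exact (Finset.mem_filter.1 h).2.1 rfl
      · exact hone (Finset.mem_filter.1 h).2
    have hd : Disjoint s₁ s₀ := Finset.disjoint_left.2 fun j hj hj' =>
      (Finset.mem_filter.1 hj).2.2 (Finset.mem_filter.1 hj').2
    have h2 : ∑ j ∈ insert D.one (s₁ ∪ s₀), D.v l j * D.val j = 0 := by
      rw [← D.v_val l]
      refine Finset.sum_subset (Finset.subset_univ _) fun j _ hj => absurd ?_ hj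
      by_cases hj1 : j = D.one
      · exact hj1 ▸ Finset.mem_insert_self _ _
      refine Finset.mem_insert_of_mem (Finset.mem_union.2 ?_)
      by_cases hM : D.Moving j
      · exact Or.inr (Finset.mem_filter.2 ⟨Finset.mem_univ _, hM⟩)
      · exact Or.inl (Finset.mem_filter.2 ⟨Finset.mem_univ _, hj1, hM⟩)
    rw [Finset.sum_insert h1, Finset.sum_union hd, D.v_one, D.val_one,
      Finset.sum_congr rfl fun j hj => by rw [hconst (Finset.mem_filter.1 hj).2.2 l], one_mul,
      ← add_assoc] at h2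
    exact h2
  have hne : ¬ r ∣ ∑ j ∈ s₀, D.v l₀ j * D.val j := fun h => hr (by
    have h' := htot l₀
    rw [show (1 : ℤ) = -(∑ j ∈ s₁, D.v l₀ j * D.val j + ∑ j ∈ s₀, D.v l₀ j * D.val j) by linarith]
    exact (hrest.add h).neg_right)
  obtain ⟨i, his, hi⟩ : ∃ i ∈ s₀, D.v l₀ i * D.val i ≠ 0 := by
    by_contra h
    push Not at h
    exact hne (by rw [Finset.sum_eq_zero h]; exact dvd_zero r)
  have hMi : D.Moving i := (Finset.mem_filter.1 his).2
  have hfac : ∀ l, ∑ j ∈ s₀, D.v l j * D.val j = (∑ j ∈ s₀, D.v l j) * D.val i := fun l => by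
    rw [Finset.sum_mul]
    exact Finset.sum_congr rfl fun j hj => by
      rw [(D.eq_of_moving hMi (Finset.mem_filter.1 hj).2).2]
  refine ⟨i, ∑ j ∈ s₀, D.v l₀ j, hMi, right_ne_zero_of_mul hi,
    fun h => hne (by rw [hfac]; exact h.mul_right _), ?_, fun l s hs => ?_⟩
  · have h1 : D.one ∉ s₀ := fun h => hone (Finset.mem_filter.1 h).2
    have hle : ∑ j ∈ insert D.one s₀, D.v l₀ j * D.v l₀ j ≤ (D.e : ℤ) + 1 :=
      (D.norm l₀) ▸ Finset.sum_le_sum_of_subset_of_nonneg (Finset.subset_univ _)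
        fun j _ _ => mul_self_nonneg _
    rw [Finset.sum_insert h1, D.v_one] at hle
    have habs : ∑ j ∈ s₀, |D.v l₀ j| ≤ ∑ j ∈ s₀, D.v l₀ j * D.v l₀ j := by
      refine Finset.sum_le_sum fun j _ => ?_
      rcases eq_or_ne (D.v l₀ j) 0 with h0 | h0
      · rw [h0]; norm_num
      · calc |D.v l₀ j| = |D.v l₀ j| * 1 := (mul_one _).symm
          _ ≤ |D.v l₀ j| * |D.v l₀ j| :=
            mul_le_mul_of_nonneg_left (Int.one_le_abs h0) (abs_nonneg _)
          _ = D.v l₀ j * D.v l₀ j := abs_mul_abs_self _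
    have := Finset.abs_sum_le_sum_abs (fun j => D.v l₀ j) s₀
    linarith
  · have he : s = s₀ := Finset.ext fun j => by simp [hs, hs₀]
    rw [he]
    have h1 := htot l
    have h2 := htot l₀
    rw [hfac] at h1 h2
    exact mul_right_cancel₀ (right_ne_zero_of_mul hi) (by linarith)

/-- Vectors of norm two with pairwise product one, orthogonal to the degrees and to every `v m`,
avoid the support of the `v m` once there are more than `e` of them. -/
theorem star_eq_zero [Finite Λ] (he : D.e < Nat.card Λ) (u : Λ → I → ℤ)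
    (hn : ∀ l, ∑ i, u l i * u l i = 2) (h1 : ∀ l m, l ≠ m → ∑ i, u l i * u m i = 1)
    (hd : ∀ l, ∑ i, u l i * D.deg i = 0) (ho : ∀ l m, ∑ i, u l i * D.v m i = 0)
    {l : Λ} {i : I} (hi : u l i ≠ 0) (m : Λ) : D.v m i = 0 := by
  classical
  haveI := Fintype.ofFinite Λ
  choose a b hab _ hw using fun k => exists_pair D.deg_pos (hn k) (hd k)
  have hv : ∀ k, D.v m (a k) = D.v m (b k) := fun k => by
    have h := ho k m
    rw [hw k, sum_pair_mul, sub_eq_zero] at h
    exact h
  have hip : ∀ k k', k ≠ k' → (if a k = a k' then (1 : ℤ) else 0) - (if a k = b k' then 1 else 0)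
      - ((if b k = a k' then 1 else 0) - (if b k = b k' then 1 else 0)) = 1 := fun k k' hk => by
    have h := h1 k k' hk
    rw [hw k, hw k', sum_pair_mul] at h
    simpa only [Pi.sub_apply, Pi.single_apply] using h
  have hor : ∀ k k', k ≠ k' → (a k = a k' ∧ b k ≠ b k') ∨ (b k = b k' ∧ a k ≠ a k') := by
    intro k k' hk
    have h := hip k k' hk
    have hk1 := hab k
    have hk2 := hab k'
    by_cases ha : a k = a k'
    · refine Or.inl ⟨ha, fun hb => ?_⟩
      rw [if_pos ha, if_pos hb, if_neg (fun e => hk2 (ha.symm.trans e)),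
        if_neg (fun e => hk2 (e.symm.trans hb))] at h
      norm_num at h
    · refine Or.inr ⟨?_, ha⟩
      by_contra hb
      rw [if_neg ha, if_neg hb] at h
      split_ifs at h <;> norm_num at h
  -- a common end
  have hall : (∀ k, a k = a l) ∨ ∀ k, b k = b l := by
    by_contra hno
    push Not at hno
    obtain ⟨⟨k, hk⟩, k', hk'⟩ := hno
    have hkl : k ≠ l := fun e => hk (by rw [e])
    have hkl' : k' ≠ l := fun e => hk' (by rw [e])
    have h2 : b k = b l := ((hor k l hkl).resolve_left fun h => hk h.1).1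
    have h3 : a k' = a l := ((hor k' l hkl').resolve_right fun h => hk' h.1).1
    rcases eq_or_ne k k' with rfl | hne
    · exact hk h3
    rcases hor k k' hne with h | h
    · exact hk (h.1.trans h3)
    · exact hk' (h.1.symm.trans h2)
  obtain ⟨x, f, hf, hfx, hfv, hx⟩ : ∃ (x : I) (f : Λ → I), Function.Injective f ∧
      (∀ k, f k ≠ x) ∧ (∀ k, D.v m (f k) = D.v m x) ∧ D.v m i = D.v m x := by
    have hil : i = a l ∨ i = b l := by
      by_contra hne
      push Not at hne
      exact hi (by rw [hw l, Pi.sub_apply, Pi.single_eq_of_ne hne.1, Pi.single_eq_of_ne hne.2,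
        sub_zero])
    have hva : D.v m i = D.v m (a l) := by
      rcases hil with rfl | rfl
      · rfl
      · exact (hv l).symm
    rcases hall with hA | hB
    · refine ⟨a l, b, fun k k' h => ?_, fun k e => hab k ((hA k).trans e.symm),
        fun k => (hv k).symm.trans (congrArg _ (hA k)), hva⟩
      by_contra hk
      rcases hor k k' hk with h' | h'
      · exact h'.2 h
      · exact h'.2 ((hA k).trans (hA k').symm)
    · refine ⟨b l, a, fun k k' h => ?_, fun k e => hab k (e.trans (hB k).symm),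
        fun k => (hv k).trans (congrArg _ (hB k)), hva.trans (hv l)⟩
      by_contra hk
      rcases hor k k' hk with h' | h'
      · exact h'.2 ((hB k).trans (hB k').symm)
      · exact h'.2 h
  rw [hx]
  set T := insert x (Finset.univ.image f)
  have hxT : x ∉ Finset.univ.image f := fun h => by
    obtain ⟨k, -, hk⟩ := Finset.mem_image.1 h
    exact hfx k hk
  have hle : ∑ j ∈ T, D.v m j * D.v m j ≤ (D.e : ℤ) + 1 :=
    (D.norm m) ▸ Finset.sum_le_sum_of_subset_of_nonneg (Finset.subset_univ _)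
      fun j _ _ => mul_self_nonneg _
  rw [Finset.sum_insert hxT, Finset.sum_image hf.injOn,
    Finset.sum_congr rfl fun k _ => by rw [hfv k], Finset.sum_const, nsmul_eq_mul,
    Finset.card_univ, Fintype.card_eq_nat_card] at hle
  by_contra hne
  have hc : (1 : ℤ) ≤ D.v m x * D.v m x := by
    have := mul_self_pos.2 hne
    omega
  have he' : ((D.e : ℤ) + 1) ≤ (Nat.card Λ : ℤ) := by exact_mod_cast he
  nlinarith

end Data

end Cfsg.Agent.Lib.BenderOne9.C2.Lattice
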